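import Cfsg.Agent.H15.NS.Suz.D0

/-! Generated by tools/h15/ns/gen.py (kit tools/h0/tr). -/

set_option maxRecDepth 100000
set_option maxHeartbeats 0

namespace H15.NS.Suz
open H16 H0.TR
open scoped commutatorElement

theorem rq_q_a : allZ2 (matEnt rq_P rq_Q) (nat_lit 6) (nat_lit 1728) = true := by decide +kernel
theorem cl47_0 : allZ (clEnt cle_Q (wdsP Tm wW) 38 39 B1 cl47L en46W) (nat_lit 0) (nat_lit 512) = true := by decide +kernel
theorem cl62_0 : allZ (clEnt rq_Q (pk (wdsP Tm wW) [4, 30, 31, 32, 1, 2, 33, 33]) 6 8 B1 cl62L en61W) (nat_lit 0) (nat_lit 128) = true := by decide +kernel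
theorem n3tn0_1_0 : allZ (n3tn0.ent Tm n3th_P n3x_P n3x_P n3e_P (nat_lit 7) (nat_lit 5) B1 n3tl0 [n3tl1, n3tl2, n3tl3, n3tl4] (memO n3c0)) (nat_lit 0) (nat_lit 1728) = true := by decide +kernel
theorem bzptn0_1_0 : allZ (bzptn0.ent Tm bzpth_P bzpx_P bzpx_P bzpe_P (nat_lit 7) (nat_lit 2) B1 bzptl0 [bzptl1, bzptl2, bzptl3] (memO bzpc0)) (nat_lit 0) (nat_lit 1728) = true := by decide +kernel
theorem en46a_a : allZ2 (tupEnt cle_Q en46T en46N (nat_lit 1728) (nat_lit 512) (nat_lit 4)) (nat_lit 7) (nat_lit 512) = true := by decide +kernel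
theorem cktn0_1_0 : allZ (cktn0.ent Tm ckth_P ckx_P ckx_P cke_P (nat_lit 7) (nat_lit 2) B1 cktl0 [cktl1, cktl2, cktl3] (memO ckc0)) (nat_lit 0) (nat_lit 1728) = true := by decide +kernel
theorem cttn0_1_0 : allZ (cttn0.ent Tm ctth_P ctx_P ctx_P cte_P (nat_lit 7) (nat_lit 4) B1 cttl0 [cttl1, cttl2, cttl3] (memO ctc0)) (nat_lit 0) (nat_lit 1728) = true := by decide +kernel
theorem wb1tn0_1_0 : allZ (wb1tn0.ent Tm wb1th_P wb1x_P wb1x_P wb1e_P (nat_lit 7) (nat_lit 2) B1 wb1tl0 [wb1tl1, wb1tl2, wb1tl3] (memO wb1c0)) (nat_lit 0) (nat_lit 1728) = true := by decide +kernel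
theorem le29_0 : allZ (leEnt (pk (catP (wdsP P wG) 38 (wdsP P uW)) [0, 58, 59]) P 3 B le29W) (nat_lit 0) (nat_lit 12) = true := by decide +kernel
theorem cntn0_1_0 : allZ (cntn0.ent Tm cnth_P cnx_P cnx_P cne_P (nat_lit 6) (nat_lit 4) B1 cntl0 [cntl1, cntl2, cntl3] (memO cnc0)) (nat_lit 0) (nat_lit 1728) = true := by decide +kernel
theorem cqtn0_1_0 : allZ (cqtn0.ent Tm cqth_P rq_P rq_P cqe_P (nat_lit 7) (nat_lit 6) B1 cqtl0 [cqtl1, cqtl2, cqtl3, cqtl4] (memO cqc0)) (nat_lit 0) (nat_lit 1728) = true := by decide +kernel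
theorem en46b_0 : allZ (enEnt cle_Q en46T en46W (nat_lit 4)) (nat_lit 0) (nat_lit 512) = true := by decide +kernel
theorem wzptn0_1_0 : allZ (wzptn0.ent Tm wzpth_P wzpx_P wzpx_P wzpe_P (nat_lit 7) (nat_lit 2) B1 wzptl0 [wzptl1, wzptl2] (memO wzpc0)) (nat_lit 0) (nat_lit 1728) = true := by decide +kernel
theorem zltn0_1_0 : allZ (zltn0.ent Tm zlth_P zlx_P zlx_P zle_P (nat_lit 7) (nat_lit 7) B1 zltl0 [zltl1, zltl2, zltl3, zltl4] (memO zlc0)) (nat_lit 0) (nat_lit 1728) = true := by decide +kernel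
theorem cgtn5_1_0 : allZ (cgtn5.ent Tm cgth_P cgx_P cgx_P cge_P (nat_lit 7) (nat_lit 1) B1 cgtl0 [cgtl1, cgtl2, cgtl3, cgtl4, cgtl5] (memO cgc0)) (nat_lit 0) (nat_lit 1728) = true := by decide +kernel
theorem cptn2_1_0 : allZ (cptn2.ent Tm cpth_P cpx_P cpx_P cpe_P (nat_lit 6) (nat_lit 1) B1 cptl0 [cptl1, cptl2, cptl3, cptl4, cptl5] (memO cpc0)) (nat_lit 0) (nat_lit 1728) = true := by decide +kernel
theorem nfk_0 : allZ (nfEnt (wdsP P wG) 36) (nat_lit 0) (nat_lit 1782) = true := by decide +kernel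
theorem cvtn1_1_0 : allZ (cvtn1.ent Tm cvth_P cvx_P cvx_P cve_P (nat_lit 7) (nat_lit 2) B1 cvtl0 [cvtl1, cvtl2, cvtl3, cvtl4, cvtl5] (memO cvc0)) (nat_lit 0) (nat_lit 1728) = true := by decide +kernel
theorem lnk_0 : allZ (lnkEnt (wdsP (wdsP P mW) wW) (wdsP P wG) B) (nat_lit 0) (nat_lit 38) = true := by decide +kernel
theorem cltn4_1_0 : allZ (cltn4.ent Tm clth_P clx_P clx_P cle_P (nat_lit 6) (nat_lit 1) B1 cltl0 [cltl1, cltl2, cltl3, cltl4, cltl5] (memO clc0)) (nat_lit 0) (nat_lit 1728) = true := by decide +kernel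
theorem cftn3_1_0 : allZ (cftn3.ent Tm cfth_P cfx_P cfx_P cfe_P (nat_lit 7) (nat_lit 1) B1 cftl0 [cftl1, cftl2, cftl3, cftl4] (memO cfc0)) (nat_lit 0) (nat_lit 1728) = true := by decide +kernel
theorem cle_q_5_0 : allZ (matEnt cle_P cle_Q (nat_lit 5)) (nat_lit 0) (nat_lit 1728) = true := by decide +kernel
theorem t_r_12_0 : allZ (resEnt t_P tP tE tI (nat_lit 1728) (nat_lit 1088) (nat_lit 12)) (nat_lit 0) (nat_lit 1088) = true := by decide +kernel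
theorem cle_q_6_0 : allZ (matEnt cle_P cle_Q (nat_lit 6)) (nat_lit 0) (nat_lit 1728) = true := by decide +kernel
theorem t_r_8_0 : allZ (resEnt t_P tP tE tI (nat_lit 1728) (nat_lit 1088) (nat_lit 8)) (nat_lit 0) (nat_lit 1088) = true := by decide +kernel
theorem cle_q_4_0 : allZ (matEnt cle_P cle_Q (nat_lit 4)) (nat_lit 0) (nat_lit 1728) = true := by decide +kernel
theorem cle_q_3_0 : allZ (matEnt cle_P cle_Q (nat_lit 3)) (nat_lit 0) (nat_lit 1728) = true := by decide +kernel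
theorem t_r_5_0 : allZ (resEnt t_P tP tE tI (nat_lit 1728) (nat_lit 1088) (nat_lit 5)) (nat_lit 0) (nat_lit 1088) = true := by decide +kernel
theorem t_r_10_0 : allZ (resEnt t_P tP tE tI (nat_lit 1728) (nat_lit 1088) (nat_lit 10)) (nat_lit 0) (nat_lit 1088) = true := by decide +kernel
theorem t_r_7_0 : allZ (resEnt t_P tP tE tI (nat_lit 1728) (nat_lit 1088) (nat_lit 7)) (nat_lit 0) (nat_lit 1088) = true := by decide +kernel
theorem t_r_1_0 : allZ (resEnt t_P tP tE tI (nat_lit 1728) (nat_lit 1088) (nat_lit 1)) (nat_lit 0) (nat_lit 1088) = true := by decide +kernel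
theorem cle_q_0_0 : allZ (matEnt cle_P cle_Q (nat_lit 0)) (nat_lit 0) (nat_lit 1728) = true := by decide +kernel
theorem t_p : allZ2 (pcEnt tP (nat_lit 2) tB tC) 14 14 = true := by decide +kernel
theorem t_r_3_0 : allZ (resEnt t_P tP tE tI (nat_lit 1728) (nat_lit 1088) (nat_lit 3)) (nat_lit 0) (nat_lit 1088) = true := by decide +kernel
theorem t_r_11_0 : allZ (resEnt t_P tP tE tI (nat_lit 1728) (nat_lit 1088) (nat_lit 11)) (nat_lit 0) (nat_lit 1088) = true := by decide +kernel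
theorem t_r_9_0 : allZ (resEnt t_P tP tE tI (nat_lit 1728) (nat_lit 1088) (nat_lit 9)) (nat_lit 0) (nat_lit 1088) = true := by decide +kernel
theorem cov_c0 : (Nat.ble 14 14 && Nat.beq (ltAll 14 []) 0 && Nat.beq (covT0.chk Tm tP covr_P tE 7 14 2 2 6 tB 14 [] 0) 0) = true := by decide +kernel
theorem t_r_6_0 : allZ (resEnt t_P tP tE tI (nat_lit 1728) (nat_lit 1088) (nat_lit 6)) (nat_lit 0) (nat_lit 1088) = true := by decide +kernel
theorem t_r_4_0 : allZ (resEnt t_P tP tE tI (nat_lit 1728) (nat_lit 1088) (nat_lit 4)) (nat_lit 0) (nat_lit 1088) = true := by decide +kernel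
theorem cle_q_1_0 : allZ (matEnt cle_P cle_Q (nat_lit 1)) (nat_lit 0) (nat_lit 1728) = true := by decide +kernel
theorem t_r_2_0 : allZ (resEnt t_P tP tE tI (nat_lit 1728) (nat_lit 1088) (nat_lit 2)) (nat_lit 0) (nat_lit 1088) = true := by decide +kernel
theorem t_r_0_0 : allZ (resEnt t_P tP tE tI (nat_lit 1728) (nat_lit 1088) (nat_lit 0)) (nat_lit 0) (nat_lit 1088) = true := by decide +kernel
theorem cftl0_e_0 : allZ (dent cftl0 cfth_P (nat_lit 1728)) (nat_lit 0) (nat_lit 1727) = true := by decide +kernel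
theorem cgtl0_e_0 : allZ (dent cgtl0 cgth_P (nat_lit 1728)) (nat_lit 0) (nat_lit 1727) = true := by decide +kernel
theorem cltl0_e_0 : allZ (dent cltl0 clth_P (nat_lit 1728)) (nat_lit 0) (nat_lit 1727) = true := by decide +kernel
theorem wzptl0_e_0 : allZ (dent wzptl0 wzpth_P (nat_lit 1728)) (nat_lit 0) (nat_lit 1727) = true := by decide +kernel
theorem cptl0_e_0 : allZ (dent cptl0 cpth_P (nat_lit 1728)) (nat_lit 0) (nat_lit 1727) = true := by decide +kernel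
theorem cl58_0 : allZ (clEnt cpe_P (wdsP Tm wW) 38 39 B1 cl58L en57W) (nat_lit 0) (nat_lit 40) = true := by decide +kernel
theorem bzptl0_e_0 : allZ (dent bzptl0 bzpth_P (nat_lit 1728)) (nat_lit 0) (nat_lit 1727) = true := by decide +kernel
theorem cttl0_e_0 : allZ (dent cttl0 ctth_P (nat_lit 1728)) (nat_lit 0) (nat_lit 1727) = true := by decide +kernel
theorem n3tl0_e_0 : allZ (dent n3tl0 n3th_P (nat_lit 1728)) (nat_lit 0) (nat_lit 1727) = true := by decide +kernel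
theorem cqtl0_e_0 : allZ (dent cqtl0 cqth_P (nat_lit 1728)) (nat_lit 0) (nat_lit 1727) = true := by decide +kernel
theorem cle_q_2_0 : allZ (matEnt cle_P cle_Q (nat_lit 2)) (nat_lit 0) (nat_lit 1728) = true := by decide +kernel
theorem zltl0_e_0 : allZ (dent zltl0 zlth_P (nat_lit 1728)) (nat_lit 0) (nat_lit 1727) = true := by decide +kernel
theorem cvtl0_e_0 : allZ (dent cvtl0 cvth_P (nat_lit 1728)) (nat_lit 0) (nat_lit 1727) = true := by decide +kernel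
theorem wb1tl0_e_0 : allZ (dent wb1tl0 wb1th_P (nat_lit 1728)) (nat_lit 0) (nat_lit 1727) = true := by decide +kernel
theorem cntl0_e_0 : allZ (dent cntl0 cnth_P (nat_lit 1728)) (nat_lit 0) (nat_lit 1727) = true := by decide +kernel
theorem cktl0_e_0 : allZ (dent cktl0 ckth_P (nat_lit 1728)) (nat_lit 0) (nat_lit 1727) = true := by decide +kernel
theorem cl20_0 : allZ (clEnt (wdsP (wdsP P mW) n3e_W) (catP (wdsP P wG) 38 (wdsP P uW)) 77 (38 + 40) B cl20L en19W) (nat_lit 0) (nat_lit 4) = true := by decide +kernel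
theorem en57b_0 : allZ (enEnt cpe_P en57T en57W (nat_lit 4)) (nat_lit 0) (nat_lit 40) = true := by decide +kernel
theorem t_r_13_0 : allZ (resEnt t_P tP tE tI (nat_lit 1728) (nat_lit 1088) (nat_lit 13)) (nat_lit 0) (nat_lit 1088) = true := by decide +kernel
theorem ns60_a : allZ2 (nrmEnt rq_P Tm (nat_lit 6) B1 ns60W) (nat_lit 6) (nat_lit 6) = true := by decide +kernel
theorem en61a_a : allZ2 (tupEnt rq_Q en61T en61N (nat_lit 1728) (nat_lit 128) (nat_lit 4)) (nat_lit 6) (nat_lit 128) = true := by decide +kernel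
theorem co51_0 : allZ (comEnt (pk (catP (wdsP P wG) 38 (wdsP P uW)) [76, 29]) (pk (catP (wdsP P wG) 38 (wdsP P uW)) [76, 29]) 2 B co51U co51V) (nat_lit 0) (nat_lit 2) = true := by decide +kernel
theorem cfc0_e_0 : allZ (dent cfc0 cfe_P (nat_lit 1728)) (nat_lit 0) (nat_lit 383) = true := by decide +kernel
theorem en61b_0 : allZ (enEnt rq_Q en61T en61W (nat_lit 4)) (nat_lit 0) (nat_lit 128) = true := by decide +kernel
theorem tl0_e_0 : allZ (dent tl0 (wdsP tP te) (nat_lit 1088)) (nat_lit 0) (nat_lit 1023) = true := by decide +kernel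
theorem en57a_a : allZ2 (tupEnt cpe_P en57T en57N (nat_lit 1728) (nat_lit 40) (nat_lit 4)) (nat_lit 3) (nat_lit 40) = true := by decide +kernel
theorem le38_0 : allZ (leEnt (pk (catP (wdsP P wG) 38 (wdsP P uW)) [25, 26, 65]) (pk (catP (wdsP P wG) 38 (wdsP P uW)) [0, 58, 59]) 3 B le38W) (nat_lit 0) (nat_lit 3) = true := by decide +kernel
theorem cjk_0 : allZ (cjEnt cj_P (wdsP (wdsP P mW) covr_W) (pk (catP (wdsP P wG) 38 (wdsP P uW)) [0, 3, 36, 37]) 4 B [nat_lit 1, nat_lit 0, nat_lit 0, nat_lit 0, nat_lit 2, nat_lit 3]) (nat_lit 0) (nat_lit 6) = true := by decide +kernel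
theorem cl11_0 : allZ (clEnt (wdsP (wdsP P mW) bzpe_W) (catP (wdsP P wG) 38 (wdsP P uW)) 77 (38 + 40) B cl11L en10W) (nat_lit 0) (nat_lit 4) = true := by decide +kernel
theorem le42_0 : allZ (leEnt (pk (catP (wdsP P wG) 38 (wdsP P uW)) [66, 67, 68]) (pk (catP (wdsP P wG) 38 (wdsP P uW)) [0, 58, 59]) 3 B le42W) (nat_lit 0) (nat_lit 3) = true := by decide +kernel
theorem le43_0 : allZ (leEnt (pk (catP (wdsP P wG) 38 (wdsP P uW)) [69, 70, 71]) (pk (catP (wdsP P wG) 38 (wdsP P uW)) [0, 58, 59]) 3 B le43W) (nat_lit 0) (nat_lit 3) = true := by decide +kernel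
theorem rG2k : H16.allL (litChk (catP (wdsP P wG) 38 (wdsP P uW)) (38 + 40) B) [(true, [nat_lit 12, nat_lit 63], [nat_lit 63, nat_lit 0]), (true, [nat_lit 13, nat_lit 63], [nat_lit 63, nat_lit 59]), (true, [nat_lit 0, nat_lit 64], [nat_lit 64, nat_lit 58]), (true, [nat_lit 54, nat_lit 64], [nat_lit 64, nat_lit 59]), (true, [nat_lit 0, nat_lit 60], [nat_lit 60, nat_lit 58]), (true, [nat_lit 0, nat_lit 61], [nat_lit 61, nat_lit 59]), (true, [nat_lit 22, nat_lit 65], [nat_lit 65, nat_lit 22]), (true, [nat_lit 36, nat_lit 66], [nat_lit 66, nat_lit 36]), (true, [nat_lit 36, nat_lit 67], [nat_lit 67, nat_lit 36]), (true, [nat_lit 66, nat_lit 67, nat_lit 36, nat_lit 68, nat_lit 36], [nat_lit 67, nat_lit 66, nat_lit 68]), (true, [nat_lit 37, nat_lit 69], [nat_lit 69, nat_lit 37]), (true, [nat_lit 37, nat_lit 70], [nat_lit 70, nat_lit 37]), (true, [nat_lit 69, nat_lit 70, nat_lit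 37, nat_lit 71, nat_lit 37], [nat_lit 70, nat_lit 69, nat_lit 71]), (true, [nat_lit 3, nat_lit 72], [nat_lit 72, nat_lit 3]), (true, [nat_lit 3, nat_lit 73], [nat_lit 73, nat_lit 3]), (true, [nat_lit 0, nat_lit 72], [nat_lit 72, nat_lit 28])] = true := by decide +kernel
theorem rG0k : H16.allL (litChk (catP (wdsP P wG) 38 (wdsP P uW)) (38 + 40) B) [(true, [nat_lit 0, nat_lit 38], [nat_lit 38, nat_lit 1]), (true, [nat_lit 1, nat_lit 38], [nat_lit 38, nat_lit 1, nat_lit 0]), (true, [nat_lit 1, nat_lit 41], [nat_lit 41, nat_lit 1]), (true, [nat_lit 1, nat_lit 42], [nat_lit 42, nat_lit 1]), (true, [nat_lit 1, nat_lit 40], [nat_lit 40, nat_lit 1]), (true, [nat_lit 7, nat_lit 40], [nat_lit 40, nat_lit 7]), (true, [nat_lit 0, nat_lit 41], [nat_lit 41, nat_lit 7]), (true, [nat_lit 0, nat_lit 42], [nat_lit 42, nat_lit 7, nat_lit 0]), (true, [nat_lit 0, nat_lit 40], [nat_lit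 40, nat_lit 1, nat_lit 0]), (true, [nat_lit 0, nat_lit 43], [nat_lit 43, nat_lit 8]), (true, [nat_lit 8, nat_lit 43], [nat_lit 43, nat_lit 8, nat_lit 0]), (true, [nat_lit 0, nat_lit 44], [nat_lit 44, nat_lit 10]), (true, [nat_lit 1, nat_lit 44], [nat_lit 44, nat_lit 8]), (true, [nat_lit 0, nat_lit 45], [nat_lit 45, nat_lit 10]), (true, [nat_lit 1, nat_lit 45], [nat_lit 45, nat_lit 9]), (true, [nat_lit 12, nat_lit 47], [nat_lit 47, nat_lit 12])] = true := by decide +kernel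
theorem nvk_0 : allZ (cllEnt gle_P (catP (wdsP P wG) 38 (wdsP P uW)) 77 (38 + 40) B [(true, [nat_lit 27, nat_lit 77], [nat_lit 77, nat_lit 27]), (true, [nat_lit 27, nat_lit 77], [nat_lit 77, nat_lit 27, nat_lit 3])]) (nat_lit 0) (nat_lit 7) = true := by decide +kernel
theorem rG1k : H16.allL (litChk (catP (wdsP P wG) 38 (wdsP P uW)) (38 + 40) B) [(true, [nat_lit 12, nat_lit 48], [nat_lit 48, nat_lit 12]), (true, [nat_lit 13, nat_lit 47], [nat_lit 47, nat_lit 46]), (true, [nat_lit 13, nat_lit 48], [nat_lit 48, nat_lit 46, nat_lit 13]), (true, [nat_lit 0, nat_lit 51], [nat_lit 51, nat_lit 13]), (true, [nat_lit 8, nat_lit 51], [nat_lit 51, nat_lit 46]), (true, [nat_lit 49, nat_lit 47], []), (true, [nat_lit 50, nat_lit 48], []), (true, [nat_lit 52, nat_lit 53, nat_lit 52], [nat_lit 54]), (true, [nat_lit 12, nat_lit 55], [nat_lit 55, nat_lit 0]), (true, [nat_lit 13, nat_lit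 55], [nat_lit 55, nat_lit 52]), (true, [nat_lit 12, nat_lit 56], [nat_lit 56, nat_lit 0]), (true, [nat_lit 13, nat_lit 56], [nat_lit 56, nat_lit 53]), (true, [nat_lit 12, nat_lit 57], [nat_lit 57, nat_lit 52]), (true, [nat_lit 13, nat_lit 57], [nat_lit 57, nat_lit 53]), (true, [nat_lit 12, nat_lit 62], [nat_lit 62, nat_lit 0]), (true, [nat_lit 13, nat_lit 62], [nat_lit 62, nat_lit 58])] = true := by decide +kernel
theorem le67_0 : allZ (leEnt (pk (wdsP Tm wW) [1, 2, 33, 33, 4]) rq_P 5 B1 le67W) (nat_lit 0) (nat_lit 6) = true := by decide +kernel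
theorem le40_0 : allZ (leEnt t_P nu_P 13 B1 le40W) (nat_lit 0) (nat_lit 8) = true := by decide +kernel
theorem cftl1_e_0 : allZ (dent cftl1 cfth_P (nat_lit 1728)) (nat_lit 0) (nat_lit 159) = true := by decide +kernel
theorem zltn0_0 : (Nat.ble zltl0.K 13 && Nat.beq (ltAll 1728 []) 0 && kChk zle_P zlx_P zltn0.Kn 7 B1 [] && H16.allL (ltAll 7) zltn0.pre && planOK zlth_P zlx_P 7 (zltl0.Pt 0) zltn0.plan [zltl0, zltl1, zltl2, zltl3, zltl4]) = true := by decide +kernel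
theorem wzptl1_e_0 : allZ (dent wzptl1 wzpth_P (nat_lit 1728)) (nat_lit 0) (nat_lit 159) = true := by decide +kernel
theorem le49_0 : allZ (leEnt t_P cle_P 13 B1 le49W) (nat_lit 0) (nat_lit 7) = true := by decide +kernel
theorem zl_f0 : (Nat.ble zlc0.K 2 && Nat.ble (topK []) zlc0.K && Nat.beq (zlc0.Pt 0) (zltl0.Pt 0) && Nat.beq (ltAll 1728 []) 0 && kChk zle_P zlx_P zlc0.K 7 B1 []) = true := by decide +kernel
theorem n3tn0_0 : (Nat.ble n3tl0.K 13 && Nat.beq (ltAll 1728 []) 0 && kChk n3e_P n3x_P n3tn0.Kn 5 B1 [] && H16.allL (ltAll 5) n3tn0.pre && planOK n3th_P n3x_P 5 (n3tl0.Pt 0) n3tn0.plan [n3tl0, n3tl1, n3tl2, n3tl3, n3tl4]) = true := by decide +kernel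
theorem rL0k : H16.allL (litChk (wdsP Tm wW) 39 B1) [(true, [nat_lit 36, nat_lit 36], []), (true, [nat_lit 0, nat_lit 0], []), (false, [nat_lit 0], []), (true, [nat_lit 1, nat_lit 1], []), (true, [nat_lit 0, nat_lit 1], [nat_lit 1, nat_lit 0]), (true, [nat_lit 0, nat_lit 7], [nat_lit 7, nat_lit 0]), (true, [nat_lit 0, nat_lit 8], [nat_lit 8, nat_lit 0]), (true, [nat_lit 0, nat_lit 10], [nat_lit 10, nat_lit 0]), (true, [nat_lit 8, nat_lit 10], [nat_lit 10, nat_lit 8]), (true, [nat_lit 8, nat_lit 0], [nat_lit 9]), (true, [nat_lit 0, nat_lit 11], [nat_lit 11, nat_lit 0]), (true, [nat_lit 1, nat_lit 11], [nat_lit 11, nat_lit 10]), (true, [nat_lit 13, nat_lit 12, nat_lit 13, nat_lit 12], [nat_lit 0]), (true, [nat_lit 0, nat_lit 17], [nat_lit 17, nat_lit 0]), (true, [nat_lit 8, nat_lit 17], [nat_lit 17, nat_lit 12]), (true, [nat_lit 0, nat_lit 18], [nat_lit 18, nat_lit 0])]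 = true := by decide +kernel
theorem rL1k : H16.allL (litChk (wdsP Tm wW) 39 B1) [(true, [nat_lit 8, nat_lit 18], [nat_lit 18, nat_lit 13]), (true, [nat_lit 12, nat_lit 0], [nat_lit 0, nat_lit 12]), (true, [nat_lit 13, nat_lit 0], [nat_lit 0, nat_lit 13]), (true, [nat_lit 3, nat_lit 36], [nat_lit 36, nat_lit 3]), (true, [nat_lit 37, nat_lit 36], [nat_lit 36, nat_lit 37]), (true, [nat_lit 37, nat_lit 37], []), (true, [nat_lit 0, nat_lit 36], [nat_lit 36, nat_lit 0]), (true, [nat_lit 0, nat_lit 37], [nat_lit 37, nat_lit 0]), (true, [nat_lit 3, nat_lit 3], []), (true, [nat_lit 3, nat_lit 19], [nat_lit 19, nat_lit 21]), (true, [nat_lit 3, nat_lit 20], [nat_lit 20, nat_lit 21, nat_lit 3]), (true, [nat_lit 22, nat_lit 22], []), (false, [nat_lit 22], []), (false, [nat_lit 3], []), (true, [nat_lit 29, nat_lit 29], [nat_lit 0]), (true, [nat_lit 3, nat_lit 27], [nat_lit 27, nat_lit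 3])] = true := by decide +kernel
theorem elk : H16.allL (litChk t_P 14 B1) [(true, [nat_lit 0, nat_lit 0], []), (true, [nat_lit 1, nat_lit 1], [])] = true := by decide +kernel
theorem cl62b : H16.allL (litChk (pk (wdsP Tm wW) [4, 30, 31, 32, 1, 2, 33, 33]) 8 B1) (cl62A.map fun l => (!l.1, l.2)) = true := by decide +kernel
theorem cktl1_e_0 : allZ (dent cktl1 ckth_P (nat_lit 1728)) (nat_lit 0) (nat_lit 159) = true := by decide +kernel
theorem cntn0_0 : (Nat.ble cntl0.K 11 && Nat.beq (ltAll 1728 []) 0 && kChk cne_P cnx_P cntn0.Kn 4 B1 [] && H16.allL (ltAll 4) cntn0.pre && planOK cnth_P cnx_P 4 (cntl0.Pt 0) cntn0.plan [cntl0, cntl1, cntl2, cntl3]) = true := by decide +kernel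
theorem n3_f0 : (Nat.ble n3c0.K 2 && Nat.ble (topK []) n3c0.K && Nat.beq (n3c0.Pt 0) (n3tl0.Pt 0) && Nat.beq (ltAll 1728 []) 0 && kChk n3e_P n3x_P n3c0.K 5 B1 []) = true := by decide +kernel
theorem rG3k : H16.allL (litChk (catP (wdsP P wG) 38 (wdsP P uW)) (38 + 40) B) [(true, [nat_lit 0, nat_lit 73], [nat_lit 73, nat_lit 28, nat_lit 0]), (true, [nat_lit 3, nat_lit 75], [nat_lit 75, nat_lit 0, nat_lit 3]), (true, [nat_lit 3, nat_lit 74], [nat_lit 74, nat_lit 3]), (true, [nat_lit 74, nat_lit 74], []), (true, [nat_lit 27, nat_lit 74], [nat_lit 74, nat_lit 27, nat_lit 3]), (true, [nat_lit 0, nat_lit 39], [nat_lit 39, nat_lit 2]), (true, [nat_lit 2, nat_lit 39], [nat_lit 39, nat_lit 2, nat_lit 0])] = true := by decide +kernel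
theorem wb1tl2_e_0 : allZ (dent wb1tl2 wb1th_P (nat_lit 1728)) (nat_lit 0) (nat_lit 127) = true := by decide +kernel
theorem cg_f5 : (Nat.ble cgc5.K 7 && Nat.ble (topK []) cgc5.K && Nat.beq (cgc5.Pt 0) (cgtl5.Pt 0) && Nat.beq (ltAll 1728 [cgtl4.Pt 0, cgtl3.Pt 0, cgtl2.Pt 0, cgtl1.Pt 0, cgtl0.Pt 0]) 0 && kChk cge_P cgx_P cgc5.K 1 B1 [cgtl4.Pt 0, cgtl3.Pt 0, cgtl2.Pt 0, cgtl1.Pt 0, cgtl0.Pt 0]) = true := by decide +kernel
theorem cg_f4 : (Nat.ble cgc4.K 7 && Nat.ble (topK [cgc5]) cgc4.K && Nat.beq (cgc4.Pt 0) (cgtl4.Pt 0) && Nat.beq (ltAll 1728 [cgtl3.Pt 0, cgtl2.Pt 0, cgtl1.Pt 0, cgtl0.Pt 0]) 0 && kChk cge_P cgx_P cgc4.K 1 B1 [cgtl3.Pt 0, cgtl2.Pt 0, cgtl1.Pt 0, cgtl0.Pt 0]) = true := by decide +kernel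
theorem cqtn0_0 : (Nat.ble cqtl0.K 13 && Nat.beq (ltAll 1728 []) 0 && kChk cqe_P rq_P cqtn0.Kn 6 B1 [] && H16.allL (ltAll 6) cqtn0.pre && planOK cqth_P rq_P 6 (cqtl0.Pt 0) cqtn0.plan [cqtl0, cqtl1, cqtl2, cqtl3, cqtl4]) = true := by decide +kernel
theorem cgtn5_0 : (Nat.ble cgtl0.K 14 && Nat.beq (ltAll 1728 []) 0 && kChk cge_P cgx_P cgtn5.Kn 1 B1 [] && H16.allL (ltAll 1) cgtn5.pre && planOK cgth_P cgx_P 1 (cgtl0.Pt 0) cgtn5.plan [cgtl0, cgtl1, cgtl2, cgtl3, cgtl4, cgtl5]) = true := by decide +kernel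
theorem cn_f0 : (Nat.ble cnc0.K 2 && Nat.ble (topK []) cnc0.K && Nat.beq (cnc0.Pt 0) (cntl0.Pt 0) && Nat.beq (ltAll 1728 []) 0 && kChk cne_P cnx_P cnc0.K 4 B1 []) = true := by decide +kernel
theorem cg_f2 : (Nat.ble cgc2.K 7 && Nat.ble (topK [cgc4, cgc5]) cgc2.K && Nat.beq (cgc2.Pt 0) (cgtl2.Pt 0) && Nat.beq (ltAll 1728 [cgtl1.Pt 0, cgtl0.Pt 0]) 0 && kChk cge_P cgx_P cgc2.K 1 B1 [cgtl1.Pt 0, cgtl0.Pt 0]) = true := by decide +kernel
theorem cg_f0 : (Nat.ble cgc0.K 7 && Nat.ble (topK [cgc1, cgc2, cgc4, cgc5]) cgc0.K && Nat.beq (cgc0.Pt 0) (cgtl0.Pt 0) && Nat.beq (ltAll 1728 []) 0 && kChk cge_P cgx_P cgc0.K 1 B1 []) = true := by decide +kernel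
theorem cg_f1 : (Nat.ble cgc1.K 7 && Nat.ble (topK [cgc2, cgc4, cgc5]) cgc1.K && Nat.beq (cgc1.Pt 0) (cgtl1.Pt 0) && Nat.beq (ltAll 1728 [cgtl0.Pt 0]) 0 && kChk cge_P cgx_P cgc1.K 1 B1 [cgtl0.Pt 0]) = true := by decide +kernel
theorem cl_f5 : (Nat.ble clc5.K 7 && Nat.ble (topK []) clc5.K && Nat.beq (clc5.Pt 0) (cltl5.Pt 0) && Nat.beq (ltAll 1728 [cltl4.Pt 0, cltl3.Pt 0, cltl2.Pt 0, cltl1.Pt 0, cltl0.Pt 0]) 0 && kChk cle_P clx_P clc5.K 1 B1 [cltl4.Pt 0, cltl3.Pt 0, cltl2.Pt 0, cltl1.Pt 0, cltl0.Pt 0]) = true := by decide +kernel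
theorem cgc0_e_0 : allZ (dent cgc0 cge_P (nat_lit 1728)) (nat_lit 0) (nat_lit 79) = true := by decide +kernel
theorem cgtn4_0 : (Nat.ble cgtl1.K 14 && Nat.beq (ltAll 1728 [cgtl0.Pt 0]) 0 && kChk cge_P cgx_P cgtn4.Kn 1 B1 [cgtl0.Pt 0] && H16.allL (ltAll 1) cgtn4.pre && planOK cgth_P cgx_P 1 (cgtl1.Pt 0) cgtn4.plan [cgtl1, cgtl2, cgtl3, cgtl4, cgtl5]) = true := by decide +kernel
theorem cm72 : 0 < 40 ∧ allZ (fun j => H16.force j (cmEnt (wdsP (wdsP P mW) pf_W) (wdsP P uW) B 0)) 0 1 = true := by decide +kernel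
theorem cm73 : 1 < 40 ∧ allZ (fun j => H16.force j (cmEnt (wdsP (wdsP P mW) pf_W) (wdsP P uW) B 1)) 0 1 = true := by decide +kernel
theorem cltn4_0 : (Nat.ble cltl0.K 13 && Nat.beq (ltAll 1728 []) 0 && kChk cle_P clx_P cltn4.Kn 1 B1 [] && H16.allL (ltAll 1) cltn4.pre && planOK clth_P clx_P 1 (cltl0.Pt 0) cltn4.plan [cltl0, cltl1, cltl2, cltl3, cltl4, cltl5]) = true := by decide +kernel
theorem le35_0 : allZ (leEnt t_P ctx_P 13 B1 le35W) (nat_lit 0) (nat_lit 4) = true := by decide +kernel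
theorem cl37_0 : allZ (clEnt cne_P (wdsP Tm wW) 38 39 B1 cl37L en36W) (nat_lit 0) (nat_lit 4) = true := by decide +kernel
theorem cl_f0 : (Nat.ble clc0.K 7 && Nat.ble (topK [clc1, clc5]) clc0.K && Nat.beq (clc0.Pt 0) (cltl0.Pt 0) && Nat.beq (ltAll 1728 []) 0 && kChk cle_P clx_P clc0.K 1 B1 []) = true := by decide +kernel
theorem bzptl2_e_0 : allZ (dent bzptl2 bzpth_P (nat_lit 1728)) (nat_lit 0) (nat_lit 63) = true := by decide +kernel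
theorem cgtn3_0 : (Nat.ble cgtl2.K 14 && Nat.beq (ltAll 1728 [cgtl1.Pt 0, cgtl0.Pt 0]) 0 && kChk cge_P cgx_P cgtn3.Kn 1 B1 [cgtl1.Pt 0, cgtl0.Pt 0] && H16.allL (ltAll 1) cgtn3.pre && planOK cgth_P cgx_P 1 (cgtl2.Pt 0) cgtn3.plan [cgtl2, cgtl3, cgtl4, cgtl5]) = true := by decide +kernel
theorem bzptn0_0 : (Nat.ble bzptl0.K 13 && Nat.beq (ltAll 1728 []) 0 && kChk bzpe_P bzpx_P bzptn0.Kn 2 B1 [] && H16.allL (ltAll 2) bzptn0.pre && planOK bzpth_P bzpx_P 2 (bzptl0.Pt 0) bzptn0.plan [bzptl0, bzptl1, bzptl2, bzptl3]) = true := by decide +kernel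
theorem wb1tn0_0 : (Nat.ble wb1tl0.K 13 && Nat.beq (ltAll 1728 []) 0 && kChk wb1e_P wb1x_P wb1tn0.Kn 2 B1 [] && H16.allL (ltAll 2) wb1tn0.pre && planOK wb1th_P wb1x_P 2 (wb1tl0.Pt 0) wb1tn0.plan [wb1tl0, wb1tl1, wb1tl2, wb1tl3]) = true := by decide +kernel
theorem co41_0 : allZ (comEnt nu_P cnx_P 8 B1 co41U co41V) (nat_lit 0) (nat_lit 4) = true := by decide +kernel
theorem cttn0_0 : (Nat.ble cttl0.K 13 && Nat.beq (ltAll 1728 []) 0 && kChk cte_P ctx_P cttn0.Kn 4 B1 [] && H16.allL (ltAll 4) cttn0.pre && planOK ctth_P ctx_P 4 (cttl0.Pt 0) cttn0.plan [cttl0, cttl1, cttl2, cttl3]) = true := by decide +kernel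
theorem cl_f1 : (Nat.ble clc1.K 7 && Nat.ble (topK [clc5]) clc1.K && Nat.beq (clc1.Pt 0) (cltl1.Pt 0) && Nat.beq (ltAll 1728 [cltl0.Pt 0]) 0 && kChk cle_P clx_P clc1.K 1 B1 [cltl0.Pt 0]) = true := by decide +kernel
theorem le59_0 : allZ (leEnt pf_P (pk (wdsP Tm wW) [4, 30, 31, 32]) 1 B1 le59W) (nat_lit 0) (nat_lit 4) = true := by decide +kernel
theorem cvtn1_0 : (Nat.ble cvtl0.K 13 && Nat.beq (ltAll 1728 []) 0 && kChk cve_P cvx_P cvtn1.Kn 2 B1 [] && H16.allL (ltAll 2) cvtn1.pre && planOK cvth_P cvx_P 2 (cvtl0.Pt 0) cvtn1.plan [cvtl0, cvtl1, cvtl2, cvtl3, cvtl4, cvtl5]) = true := by decide +kernel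
theorem cq_f0 : (Nat.ble cqc0.K 1 && Nat.ble (topK []) cqc0.K && Nat.beq (cqc0.Pt 0) (cqtl0.Pt 0) && Nat.beq (ltAll 1728 []) 0 && kChk cqe_P rq_P cqc0.K 6 B1 []) = true := by decide +kernel
theorem co4_0 : allZ (comEnt Tm Tm 5 B1 co4U co4V) (nat_lit 0) (nat_lit 5) = true := by decide +kernel
theorem cltn1_1_0 : allZ (cltn1.ent Tm clth_P clx_P clx_P cle_P (nat_lit 6) (nat_lit 1) B1 cltl3 [cltl4, cltl5] (fun w => Nat.xor w (cltl3.Pt (nat_lit 0)))) (nat_lit 0) (nat_lit 6) = true := by decide +kernel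
theorem cl45_0 : allZ (clEnt zle_P (wdsP Tm wW) 38 39 B1 cl45L en44W) (nat_lit 0) (nat_lit 4) = true := by decide +kernel
theorem cl14_0 : allZ (clEnt wb1e_P (wdsP Tm wW) 38 39 B1 cl14L en13W) (nat_lit 0) (nat_lit 4) = true := by decide +kernel
theorem co55_0 : allZ (comEnt t_P t_P 13 B1 co55U co55V) (nat_lit 0) (nat_lit 1) = true := by decide +kernel
theorem cs54_a : allZ2 (cmEnt t_P t_P B1) (nat_lit 2) (nat_lit 2) = true := by decide +kernel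
theorem cf_f4 : (Nat.ble cfc4.K 5 && Nat.ble (topK []) cfc4.K && Nat.beq (cfc4.Pt 0) (cftl4.Pt 0) && Nat.beq (ltAll 1728 [cftl3.Pt 0, cftl2.Pt 0, cftl1.Pt 0, cftl0.Pt 0]) 0 && kChk cfe_P cfx_P cfc4.K 1 B1 [cftl3.Pt 0, cftl2.Pt 0, cftl1.Pt 0, cftl0.Pt 0]) = true := by decide +kernel
theorem cltn3_0 : (Nat.ble cltl1.K 13 && Nat.beq (ltAll 1728 [cltl0.Pt 0]) 0 && kChk cle_P clx_P cltn3.Kn 1 B1 [cltl0.Pt 0] && H16.allL (ltAll 1) cltn3.pre && planOK clth_P clx_P 1 (cltl1.Pt 0) cltn3.plan [cltl1, cltl2, cltl3, cltl4, cltl5]) = true := by decide +kernel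
theorem wzptn0_0 : (Nat.ble wzptl0.K 14 && Nat.beq (ltAll 1728 []) 0 && kChk wzpe_P wzpx_P wzptn0.Kn 2 B1 [] && H16.allL (ltAll 2) wzptn0.pre && planOK wzpth_P wzpx_P 2 (wzptl0.Pt 0) wzptn0.plan [wzptl0, wzptl1, wzptl2]) = true := by decide +kernel
theorem cptn1_0 : (Nat.ble cptl1.K 12 && Nat.beq (ltAll 1728 [cptl0.Pt 0]) 0 && kChk cpe_P cpx_P cptn1.Kn 1 B1 [cptl0.Pt 0] && H16.allL (ltAll 1) cptn1.pre && planOK cpth_P cpx_P 1 (cptl1.Pt 0) cptn1.plan [cptl1, cptl2, cptl3, cptl4, cptl5]) = true := by decide +kernel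
theorem cptn3_0 : (Nat.ble cptl1.K 12 && Nat.beq (ltAll 1728 [cptl0.Pt 0]) 0 && kChk cptr3k_P cptn2y1211_P cptn3.Kn 1 B1 [cptl0.Pt 0] && H16.allL (ltAll 1) cptn3.pre && planOK cpth_P cpx_P 1 (cptl1.Pt 0) cptn3.plan [cptl1, cptl2, cptl3, cptl4, cptl5]) = true := by decide +kernel
theorem cgtn2_0 : (Nat.ble cgtl5.K 14 && Nat.beq (ltAll 1728 [cgtl4.Pt 0, cgtl3.Pt 0, cgtl2.Pt 0, cgtl1.Pt 0, cgtl0.Pt 0]) 0 && kChk cgtr2k_P cgtn1y1146_P cgtn2.Kn 1 B1 [cgtl4.Pt 0, cgtl3.Pt 0, cgtl2.Pt 0, cgtl1.Pt 0, cgtl0.Pt 0] && H16.allL (ltAll 1) cgtn2.pre && planOK cgth_P cgx_P 1 (cgtl5.Pt 0) cgtn2.plan [cgtl5]) = true := by decide +kernel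
theorem cv_f0 : (Nat.ble cvc0.K 3 && Nat.ble (topK [cvc5]) cvc0.K && Nat.beq (cvc0.Pt 0) (cvtl0.Pt 0) && Nat.beq (ltAll 1728 []) 0 && kChk cve_P cvx_P cvc0.K 2 B1 []) = true := by decide +kernel
theorem cv_f5 : (Nat.ble cvc5.K 3 && Nat.ble (topK []) cvc5.K && Nat.beq (cvc5.Pt 0) (cvtl5.Pt 0) && Nat.beq (ltAll 1728 [cvtl4.Pt 0, cvtl3.Pt 0, cvtl2.Pt 0, cvtl1.Pt 0, cvtl0.Pt 0]) 0 && kChk cve_P cvx_P cvc5.K 2 B1 [cvtl4.Pt 0, cvtl3.Pt 0, cvtl2.Pt 0, cvtl1.Pt 0, cvtl0.Pt 0]) = true := by decide +kernel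
theorem bzp_f0 : (Nat.ble bzpc0.K 2 && Nat.ble (topK []) bzpc0.K && Nat.beq (bzpc0.Pt 0) (bzptl0.Pt 0) && Nat.beq (ltAll 1728 []) 0 && kChk bzpe_P bzpx_P bzpc0.K 2 B1 []) = true := by decide +kernel
theorem wb1_f0 : (Nat.ble wb1c0.K 2 && Nat.ble (topK []) wb1c0.K && Nat.beq (wb1c0.Pt 0) (wb1tl0.Pt 0) && Nat.beq (ltAll 1728 []) 0 && kChk wb1e_P wb1x_P wb1c0.K 2 B1 []) = true := by decide +kernel
theorem cftn3_0 : (Nat.ble cftl0.K 15 && Nat.beq (ltAll 1728 []) 0 && kChk cfe_P cfx_P cftn3.Kn 1 B1 [] && H16.allL (ltAll 1) cftn3.pre && planOK cfth_P cfx_P 1 (cftl0.Pt 0) cftn3.plan [cftl0, cftl1, cftl2, cftl3, cftl4]) = true := by decide +kernel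
theorem ct_f0 : (Nat.ble ctc0.K 1 && Nat.ble (topK []) ctc0.K && Nat.beq (ctc0.Pt 0) (cttl0.Pt 0) && Nat.beq (ltAll 1728 []) 0 && kChk cte_P ctx_P ctc0.K 4 B1 []) = true := by decide +kernel
theorem rL2k : H16.allL (litChk (wdsP Tm wW) 39 B1) [(false, [nat_lit 2, nat_lit 1], [nat_lit 1, nat_lit 2]), (true, [nat_lit 2, nat_lit 2], []), (true, [nat_lit 1, nat_lit 34], [nat_lit 34, nat_lit 33]), (true, [nat_lit 2, nat_lit 35], [nat_lit 35, nat_lit 33]), (true, [nat_lit 2, nat_lit 1, nat_lit 2], [nat_lit 0, nat_lit 1])] = true := by decide +kernel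
theorem cgtn1_0 : (Nat.ble cgtl4.K 14 && Nat.beq (ltAll 1728 [cgtl3.Pt 0, cgtl2.Pt 0, cgtl1.Pt 0, cgtl0.Pt 0]) 0 && kChk cge_P cgx_P cgtn1.Kn 1 B1 [cgtl3.Pt 0, cgtl2.Pt 0, cgtl1.Pt 0, cgtl0.Pt 0] && H16.allL (ltAll 1) cgtn1.pre && planOK cgth_P cgx_P 1 (cgtl4.Pt 0) cgtn1.plan [cgtl4, cgtl5]) = true := by decide +kernel
theorem cm25 : 13 < 39 ∧ allZ (fun j => H16.force j (cmEnt (pk (wdsP Tm wW) [14, 15, 16]) (wdsP Tm wW) B1 13)) 0 3 = true := by decide +kernel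
theorem cptn3_1_0 : allZ (cptn3.ent Tm cpth_P cpx_P cptn2y1211_P cptr3k_P (nat_lit 6) (nat_lit 1) B1 cptl1 [cptl2, cptl3, cptl4, cptl5] (fun _ => nat_lit 1)) (nat_lit 0) (nat_lit 10) = true := by decide +kernel
theorem cltn2_0 : (Nat.ble cltl5.K 13 && Nat.beq (ltAll 1728 [cltl4.Pt 0, cltl3.Pt 0, cltl2.Pt 0, cltl1.Pt 0, cltl0.Pt 0]) 0 && kChk cltr2k_P cltn1y990_P cltn2.Kn 1 B1 [cltl4.Pt 0, cltl3.Pt 0, cltl2.Pt 0, cltl1.Pt 0, cltl0.Pt 0] && H16.allL (ltAll 1) cltn2.pre && planOK clth_P clx_P 1 (cltl5.Pt 0) cltn2.plan [cltl5]) = true := by decide +kernel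
theorem cptn2_0 : (Nat.ble cptl0.K 12 && Nat.beq (ltAll 1728 []) 0 && kChk cpe_P cpx_P cptn2.Kn 1 B1 [] && H16.allL (ltAll 1) cptn2.pre && planOK cpth_P cpx_P 1 (cptl0.Pt 0) cptn2.plan [cptl0, cptl1, cptl2, cptl3, cptl4, cptl5]) = true := by decide +kernel
theorem cm1 : 0 < 39 ∧ allZ (fun j => H16.force j (cmEnt Tm (wdsP Tm wW) B1 0)) 0 7 = true := by decide +kernel
theorem cp_f5 : (Nat.ble cpc5.K 3 && Nat.ble (topK []) cpc5.K && Nat.beq (cpc5.Pt 0) (cptl5.Pt 0) && Nat.beq (ltAll 1728 [cptl4.Pt 0, cptl3.Pt 0, cptl2.Pt 0, cptl1.Pt 0, cptl0.Pt 0]) 0 && kChk cpe_P cpx_P cpc5.K 1 B1 [cptl4.Pt 0, cptl3.Pt 0, cptl2.Pt 0, cptl1.Pt 0, cptl0.Pt 0]) = true := by decide +kernel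
theorem wzp_f0 : (Nat.ble wzpc0.K 2 && Nat.ble (topK []) wzpc0.K && Nat.beq (wzpc0.Pt 0) (wzptl0.Pt 0) && Nat.beq (ltAll 1728 []) 0 && kChk wzpe_P wzpx_P wzpc0.K 2 B1 []) = true := by decide +kernel
theorem cftn2_0 : (Nat.ble cftl4.K 15 && Nat.beq (ltAll 1728 [cftl3.Pt 0, cftl2.Pt 0, cftl1.Pt 0, cftl0.Pt 0]) 0 && kChk cftr2k_P cftn1y1706_P cftn2.Kn 1 B1 [cftl3.Pt 0, cftl2.Pt 0, cftl1.Pt 0, cftl0.Pt 0] && H16.allL (ltAll 1) cftn2.pre && planOK cfth_P cfx_P 1 (cftl4.Pt 0) cftn2.plan [cftl4]) = true := by decide +kernel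
theorem cptn1_1_0 : allZ (cptn1.ent Tm cpth_P cpx_P cpx_P cpe_P (nat_lit 6) (nat_lit 1) B1 cptl1 [cptl2, cptl3, cptl4, cptl5] (memO cpc1)) (nat_lit 0) (nat_lit 10) = true := by decide +kernel
theorem cm24 : 12 < 39 ∧ allZ (fun j => H16.force j (cmEnt (pk (wdsP Tm wW) [14, 15, 16]) (wdsP Tm wW) B1 12)) 0 3 = true := by decide +kernel
theorem ns56_a : allZ2 (nrmEnt t_P Tm (nat_lit 1) B1 ns56W) (nat_lit 5) (nat_lit 1) = true := by decide +kernel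
theorem cttl3_e_0 : allZ (dent cttl3 ctth_P (nat_lit 1728)) (nat_lit 0) (nat_lit 31) = true := by decide +kernel
theorem cqtl1_e_0 : allZ (dent cqtl1 cqth_P (nat_lit 1728)) (nat_lit 0) (nat_lit 31) = true := by decide +kernel
theorem cp_f0 : (Nat.ble cpc0.K 3 && Nat.ble (topK [cpc1, cpc5]) cpc0.K && Nat.beq (cpc0.Pt 0) (cptl0.Pt 0) && Nat.beq (ltAll 1728 []) 0 && kChk cpe_P cpx_P cpc0.K 1 B1 []) = true := by decide +kernel
theorem le71_0 : allZ (leEnt (pk (wdsP Tm wW) [0, 1, 4, 4]) cve_P 4 B1 le71W) (nat_lit 0) (nat_lit 3) = true := by decide +kernel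
theorem cktn0_0 : (Nat.ble cktl0.K 12 && Nat.beq (ltAll 1728 []) 0 && kChk cke_P ckx_P cktn0.Kn 2 B1 [] && H16.allL (ltAll 2) cktn0.pre && planOK ckth_P ckx_P 2 (cktl0.Pt 0) cktn0.plan [cktl0, cktl1, cktl2, cktl3]) = true := by decide +kernel
theorem n3tl1_e_0 : allZ (dent n3tl1 n3th_P (nat_lit 1728)) (nat_lit 0) (nat_lit 31) = true := by decide +kernel
theorem cm50 : 3 < 38 ∧ allZ (fun j => H16.force j (cmEnt (pk (catP (wdsP P wG) 38 (wdsP P uW)) [76, 29]) (wdsP P wG) B 3)) 0 2 = true := by decide +kernel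
theorem cntl1_e_0 : allZ (dent cntl1 cnth_P (nat_lit 1728)) (nat_lit 0) (nat_lit 31) = true := by decide +kernel
theorem cftn1_1_0 : allZ (cftn1.ent Tm cfth_P cfx_P cfx_P cfe_P (nat_lit 7) (nat_lit 1) B1 cftl2 [cftl3, cftl4] (fun w => Nat.xor w (cftl2.Pt (nat_lit 0)))) (nat_lit 0) (nat_lit 6) = true := by decide +kernel
theorem cl8_0 : allZ (clEnt wzpe_P (wdsP Tm wW) 38 39 B1 cl8L en7W) (nat_lit 0) (nat_lit 4) = true := by decide +kernel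
theorem cf_f0 : (Nat.ble cfc0.K 5 && Nat.ble (topK [cfc4]) cfc0.K && Nat.beq (cfc0.Pt 0) (cftl0.Pt 0) && Nat.beq (ltAll 1728 []) 0 && kChk cfe_P cfx_P cfc0.K 1 B1 []) = true := by decide +kernel
theorem cp_f1 : (Nat.ble cpc1.K 3 && Nat.ble (topK [cpc5]) cpc1.K && Nat.beq (cpc1.Pt 0) (cptl1.Pt 0) && Nat.beq (ltAll 1728 [cptl0.Pt 0]) 0 && kChk cpe_P cpx_P cpc1.K 1 B1 [cptl0.Pt 0]) = true := by decide +kernel
theorem clc0_e_0 : allZ (dent clc0 cle_P (nat_lit 1728)) (nat_lit 0) (nat_lit 31) = true := by decide +kernel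
theorem en46c : 0 < 512 ∧ H16.allL (ltAll 7) en46W = true ∧ ∀ β ∈ B1, ∃ j < 4, en46T j 0 = β := by decide +kernel
theorem cm39 : 0 < 39 ∧ allZ (fun j => H16.force j (cmEnt Tm (wdsP Tm wW) B1 0)) 0 5 = true := by decide +kernel
theorem cltn1_0 : (Nat.ble cltl3.K 13 && Nat.beq (ltAll 1728 [cltl2.Pt 0, cltl1.Pt 0, cltl0.Pt 0]) 0 && kChk cle_P clx_P cltn1.Kn 1 B1 [cltl2.Pt 0, cltl1.Pt 0, cltl0.Pt 0] && H16.allL (ltAll 1) cltn1.pre && planOK clth_P clx_P 1 (cltl3.Pt 0) cltn1.plan [cltl3, cltl4, cltl5]) = true := by decide +kernel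
theorem en13a_a : allZ2 (tupEnt wb1e_P en13T en13N (nat_lit 1728) (nat_lit 4) (nat_lit 4)) (nat_lit 2) (nat_lit 4) = true := by decide +kernel
theorem en19a_a : allZ2 (tupEnt n3e_P en19T en19N (nat_lit 1728) (nat_lit 4) (nat_lit 4)) (nat_lit 2) (nat_lit 4) = true := by decide +kernel
theorem en36a_a : allZ2 (tupEnt cne_P en36T en36N (nat_lit 1728) (nat_lit 4) (nat_lit 4)) (nat_lit 2) (nat_lit 4) = true := by decide +kernel
theorem en44a_a : allZ2 (tupEnt zle_P en44T en44N (nat_lit 1728) (nat_lit 4) (nat_lit 4)) (nat_lit 2) (nat_lit 4) = true := by decide +kernel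
theorem cm15 : 8 < 39 ∧ allZ (fun j => H16.force j (cmEnt wb1x_P (wdsP Tm wW) B1 8)) 0 2 = true := by decide +kernel
theorem cgtn0_0 : (Nat.ble cgtl5.K 14 && Nat.beq (ltAll 1728 [cgtl4.Pt 0, cgtl3.Pt 0, cgtl2.Pt 0, cgtl1.Pt 0, cgtl0.Pt 0]) 0 && kChk cge_P cgx_P cgtn0.Kn 1 B1 [cgtl4.Pt 0, cgtl3.Pt 0, cgtl2.Pt 0, cgtl1.Pt 0, cgtl0.Pt 0] && H16.allL (ltAll 1) cgtn0.pre && planOK cgth_P cgx_P 1 (cgtl5.Pt 0) cgtn0.plan [cgtl5]) = true := by decide +kernel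
theorem wzptl2_e_0 : allZ (dent wzptl2 wzpth_P (nat_lit 1728)) (nat_lit 0) (nat_lit 23) = true := by decide +kernel
theorem cgtn1_1_0 : allZ (cgtn1.ent Tm cgth_P cgx_P cgx_P cge_P (nat_lit 7) (nat_lit 1) B1 cgtl4 [cgtl5] (memO cgc4)) (nat_lit 0) (nat_lit 4) = true := by decide +kernel
theorem cftn1_0 : (Nat.ble cftl2.K 15 && Nat.beq (ltAll 1728 [cftl1.Pt 0, cftl0.Pt 0]) 0 && kChk cfe_P cfx_P cftn1.Kn 1 B1 [cftl1.Pt 0, cftl0.Pt 0] && H16.allL (ltAll 1) cftn1.pre && planOK cfth_P cfx_P 1 (cftl2.Pt 0) cftn1.plan [cftl2, cftl3, cftl4]) = true := by decide +kernel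
theorem en13b_0 : allZ (enEnt wb1e_P en13T en13W (nat_lit 4)) (nat_lit 0) (nat_lit 4) = true := by decide +kernel
theorem en19b_0 : allZ (enEnt n3e_P en19T en19W (nat_lit 4)) (nat_lit 0) (nat_lit 4) = true := by decide +kernel
theorem en36b_0 : allZ (enEnt cne_P en36T en36W (nat_lit 4)) (nat_lit 0) (nat_lit 4) = true := by decide +kernel
theorem en44b_0 : allZ (enEnt zle_P en44T en44W (nat_lit 4)) (nat_lit 0) (nat_lit 4) = true := by decide +kernel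
theorem cm12 : 7 < 39 ∧ allZ (fun j => H16.force j (cmEnt bzpx_P (wdsP Tm wW) B1 7)) 0 2 = true := by decide +kernel
theorem cltn0_0 : (Nat.ble cltl5.K 13 && Nat.beq (ltAll 1728 [cltl4.Pt 0, cltl3.Pt 0, cltl2.Pt 0, cltl1.Pt 0, cltl0.Pt 0]) 0 && kChk cle_P clx_P cltn0.Kn 1 B1 [cltl4.Pt 0, cltl3.Pt 0, cltl2.Pt 0, cltl1.Pt 0, cltl0.Pt 0] && H16.allL (ltAll 1) cltn0.pre && planOK clth_P clx_P 1 (cltl5.Pt 0) cltn0.plan [cltl5]) = true := by decide +kernel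
theorem pf_r_a : allZ2 (resEnt pf_P pfP pfE pfI (nat_lit 1728) (nat_lit 20)) (nat_lit 1) (nat_lit 20) = true := by decide +kernel
theorem en10a_a : allZ2 (tupEnt bzpe_P en10T en10N (nat_lit 1728) (nat_lit 4) (nat_lit 4)) (nat_lit 2) (nat_lit 4) = true := by decide +kernel
theorem ck_f0 : (Nat.ble ckc0.K 1 && Nat.ble (topK []) ckc0.K && Nat.beq (ckc0.Pt 0) (cktl0.Pt 0) && Nat.beq (ltAll 1728 []) 0 && kChk cke_P ckx_P ckc0.K 2 B1 []) = true := by decide +kernel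
theorem en10b_0 : allZ (enEnt bzpe_P en10T en10W (nat_lit 4)) (nat_lit 0) (nat_lit 4) = true := by decide +kernel
theorem nm2 : 6 < 7 ∧ allZ (fun j => H16.force j fun j => cjL Tm Tm 6 B1 6 [j] (nth [] [[nat_lit 0, nat_lit 3, nat_lit 1, nat_lit 2, nat_lit 4, nat_lit 3, nat_lit 1, nat_lit 4, nat_lit 0, nat_lit 2],
  [nat_lit 0, nat_lit 4, nat_lit 0, nat_lit 2, nat_lit 0, nat_lit 4, nat_lit 0, nat_lit 1, nat_lit 2, nat_lit 0, nat_lit 2],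
  [nat_lit 1, nat_lit 2, nat_lit 4, nat_lit 2, nat_lit 0, nat_lit 2, nat_lit 4, nat_lit 2, nat_lit 1],
  [nat_lit 4, nat_lit 1, nat_lit 0, nat_lit 3, nat_lit 4, nat_lit 2, nat_lit 1, nat_lit 3, nat_lit 0, nat_lit 2, nat_lit 3],
  [nat_lit 2, nat_lit 4, nat_lit 3, nat_lit 1, nat_lit 0, nat_lit 4, nat_lit 1, nat_lit 0, nat_lit 2, nat_lit 4, nat_lit 0],
  [nat_lit 1, nat_lit 4, nat_lit 5, nat_lit 4, nat_lit 1, nat_lit 5]] j)) 0 6 = true := by decide +kernel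
theorem cvtl1_e_0 : allZ (dent cvtl1 cvth_P (nat_lit 1728)) (nat_lit 0) (nat_lit 19) = true := by decide +kernel
theorem cntl2_e_0 : allZ (dent cntl2 cnth_P (nat_lit 1728)) (nat_lit 0) (nat_lit 19) = true := by decide +kernel
theorem me48 : 3 < 39 ∧ ltAll 13 [nat_lit 0, nat_lit 3, nat_lit 5, nat_lit 10, nat_lit 8] = 0 ∧ sumL (fun β => Nat.xor ((wdsP Tm wW) 3 β) (apW t_P [nat_lit 0, nat_lit 3, nat_lit 5, nat_lit 10, nat_lit 8] β)) B1 = 0 := by decide +kernel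
theorem bzptl1_e_0 : allZ (dent bzptl1 bzpth_P (nat_lit 1728)) (nat_lit 0) (nat_lit 19) = true := by decide +kernel
theorem cftn0_0 : (Nat.ble cftl4.K 15 && Nat.beq (ltAll 1728 [cftl3.Pt 0, cftl2.Pt 0, cftl1.Pt 0, cftl0.Pt 0]) 0 && kChk cfe_P cfx_P cftn0.Kn 1 B1 [cftl3.Pt 0, cftl2.Pt 0, cftl1.Pt 0, cftl0.Pt 0] && H16.allL (ltAll 1) cftn0.pre && planOK cfth_P cfx_P 1 (cftl4.Pt 0) cftn0.plan [cftl4]) = true := by decide +kernel
theorem cptn0_0 : (Nat.ble cptl5.K 12 && Nat.beq (ltAll 1728 [cptl4.Pt 0, cptl3.Pt 0, cptl2.Pt 0, cptl1.Pt 0, cptl0.Pt 0]) 0 && kChk cpe_P cpx_P cptn0.Kn 1 B1 [cptl4.Pt 0, cptl3.Pt 0, cptl2.Pt 0, cptl1.Pt 0, cptl0.Pt 0] && H16.allL (ltAll 1) cptn0.pre && planOK cpth_P cpx_P 1 (cptl5.Pt 0) cptn0.plan [cptl5]) = true := by decide +kernel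
theorem en61c : 0 < 128 ∧ H16.allL (ltAll 6) en61W = true ∧ ∀ β ∈ B1, ∃ j < 4, en61T j 0 = β := by decide +kernel
theorem me52 : 1 < 39 ∧ ltAll 13 [nat_lit 1, nat_lit 10, nat_lit 11, nat_lit 8, nat_lit 9] = 0 ∧ sumL (fun β => Nat.xor ((wdsP Tm wW) 1 β) (apW t_P [nat_lit 1, nat_lit 10, nat_lit 11, nat_lit 8, nat_lit 9] β)) B1 = 0 := by decide +kernel
theorem cvtn0_0 : (Nat.ble cvtl5.K 13 && Nat.beq (ltAll 1728 [cvtl4.Pt 0, cvtl3.Pt 0, cvtl2.Pt 0, cvtl1.Pt 0, cvtl0.Pt 0]) 0 && kChk cve_P cvx_P cvtn0.Kn 2 B1 [cvtl4.Pt 0, cvtl3.Pt 0, cvtl2.Pt 0, cvtl1.Pt 0, cvtl0.Pt 0] && H16.allL (ltAll 2) cvtn0.pre && planOK cvth_P cvx_P 2 (cvtl5.Pt 0) cvtn0.plan [cvtl5]) = true := by decide +kernel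
theorem zltl3_e_0 : allZ (dent zltl3 zlth_P (nat_lit 1728)) (nat_lit 0) (nat_lit 15) = true := by decide +kernel
theorem nm3 : 1 < 39 ∧ allZ (fun j => H16.force j fun j => cjL Tm (wdsP Tm wW) 5 B1 1 [j] (nth [] [[nat_lit 2, nat_lit 3, nat_lit 2, nat_lit 3, nat_lit 0, nat_lit 2, nat_lit 3, nat_lit 2, nat_lit 3],
  [nat_lit 2, nat_lit 3, nat_lit 2, nat_lit 3, nat_lit 1, nat_lit 2, nat_lit 3, nat_lit 2, nat_lit 3],
  [nat_lit 2],
  [nat_lit 3],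
  [nat_lit 2, nat_lit 3, nat_lit 2, nat_lit 3, nat_lit 4, nat_lit 2, nat_lit 3, nat_lit 2, nat_lit 3]] j)) 0 5 = true := by decide +kernel
theorem cm9 : 1 < 39 ∧ allZ (fun j => H16.force j (cmEnt wzpx_P (wdsP Tm wW) B1 1)) 0 2 = true := by decide +kernel
theorem en57c : 0 < 40 ∧ H16.allL (ltAll 3) en57W = true ∧ ∀ β ∈ B1, ∃ j < 4, en57T j 0 = β := by decide +kernel
theorem en7a_a : allZ2 (tupEnt wzpe_P en7T en7N (nat_lit 1728) (nat_lit 4) (nat_lit 4)) (nat_lit 2) (nat_lit 4) = true := by decide +kernel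
theorem me63 : 1 < 39 ∧ ltAll 6 [nat_lit 0, nat_lit 1, nat_lit 2, nat_lit 4, nat_lit 3] = 0 ∧ sumL (fun β => Nat.xor ((wdsP Tm wW) 1 β) (apW rq_P [nat_lit 0, nat_lit 1, nat_lit 2, nat_lit 4, nat_lit 3] β)) B1 = 0 := by decide +kernel
theorem en7c : 0 < 4 ∧ H16.allL (ltAll 2) en7W = true ∧ ∀ β ∈ B1, ∃ j < 4, en7T j 0 = β := by decide +kernel
theorem en10c : 0 < 4 ∧ H16.allL (ltAll 2) en10W = true ∧ ∀ β ∈ B1, ∃ j < 4, en10T j 0 = β := by decide +kernel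
theorem en13c : 0 < 4 ∧ H16.allL (ltAll 2) en13W = true ∧ ∀ β ∈ B1, ∃ j < 4, en13T j 0 = β := by decide +kernel
theorem en19c : 0 < 4 ∧ H16.allL (ltAll 2) en19W = true ∧ ∀ β ∈ B1, ∃ j < 4, en19T j 0 = β := by decide +kernel
theorem en36c : 0 < 4 ∧ H16.allL (ltAll 2) en36W = true ∧ ∀ β ∈ B1, ∃ j < 4, en36T j 0 = β := by decide +kernel
theorem en44c : 0 < 4 ∧ H16.allL (ltAll 2) en44W = true ∧ ∀ β ∈ B1, ∃ j < 4, en44T j 0 = β := by decide +kernel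
theorem en33c : 0 < 2 ∧ H16.allL (ltAll 1) en33W = true ∧ ∀ β ∈ B1, ∃ j < 4, en33T j 0 = β := by decide +kernel
theorem en65c : 0 < 2 ∧ H16.allL (ltAll 1) en65W = true ∧ ∀ β ∈ B1, ∃ j < 4, en65T j 0 = β := by decide +kernel
theorem t_lt : H16.allL (ltAll 7) t_W = true := by decide +kernel
theorem t_b : neL B1 (tB.map tE) = 0 ∧ ltAll 1088 tB = 0 := by decide +kernel
theorem t_e : H16.allL (ltAll 14) te = true := by decide +kernel
theorem tl0_h : 0 < tl0.n ∧ 0 < tl0.K ∧ tl0.Pt 0 < 1088 ∧ tl0.Q (tl0.Pt 0) = 0 := by decide +kernel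
theorem tl1_h : 0 < tl1.n ∧ 0 < tl1.K ∧ tl1.Pt 0 < 1088 ∧ tl1.Q (tl1.Pt 0) = 0 := by decide +kernel
theorem t_c : chainCard [tl0, tl1] = 2 ^ 14 ∧ ¬ 2 ^ (14 + 1) ∣ 6635520 := by decide +kernel
theorem pf_lt : H16.allL (ltAll 7) pf_W = true := by decide +kernel
theorem pf_b : neL B1 (pfB.map pfE) = 0 ∧ ltAll 20 pfB = 0 := by decide +kernel
theorem pf_e : H16.allL (ltAll 1) pfe = true := by decide +kernel
theorem pfl0_h : 0 < pfl0.n ∧ 0 < pfl0.K ∧ pfl0.Pt 0 < 20 ∧ pfl0.Q (pfl0.Pt 0) = 0 := by decide +kernel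
theorem pf_c : chainCard [pfl0] = 5 ^ 1 ∧ ¬ 5 ^ (1 + 1) ∣ 6635520 := by decide +kernel
theorem wzpx_lt : H16.allL (ltAll 7) wzpx_W = true := by decide +kernel
theorem wzpth_lt : H16.allL (ltAll 7) wzpth_W = true := by decide +kernel
theorem wzptl0_h : 0 < wzptl0.n ∧ 0 < wzptl0.K ∧ wzptl0.Pt 0 < 1728 ∧ wzptl0.Q (wzptl0.Pt 0) = 0 := by decide +kernel
theorem wzptl1_h : 0 < wzptl1.n ∧ 0 < wzptl1.K ∧ wzptl1.Pt 0 < 1728 ∧ wzptl1.Q (wzptl1.Pt 0) = 0 := by decide +kernel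
theorem wzptl2_h : 0 < wzptl2.n ∧ 0 < wzptl2.K ∧ wzptl2.Pt 0 < 1728 ∧ wzptl2.Q (wzptl2.Pt 0) = 0 := by decide +kernel
theorem wzpt_c : chainCard [wzptl0, wzptl1, wzptl2] = 6635520 := by decide +kernel
theorem wzpe_lt : H16.allL (ltAll 7) wzpe_W = true := by decide +kernel
theorem wzpc0_h : 0 < wzpc0.n ∧ 0 < wzpc0.K ∧ wzpc0.Pt 0 < 1728 ∧ wzpc0.Q (wzpc0.Pt 0) = 0 := by decide +kernel
theorem wzp_c : chainCard [wzpc0] = 4 ∧ topK [wzpc0] = 2 := by decide +kernel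
theorem bzpx_lt : H16.allL (ltAll 7) bzpx_W = true := by decide +kernel
theorem bzpth_lt : H16.allL (ltAll 7) bzpth_W = true := by decide +kernel
theorem bzptl0_h : 0 < bzptl0.n ∧ 0 < bzptl0.K ∧ bzptl0.Pt 0 < 1728 ∧ bzptl0.Q (bzptl0.Pt 0) = 0 := by decide +kernel
theorem bzptl1_h : 0 < bzptl1.n ∧ 0 < bzptl1.K ∧ bzptl1.Pt 0 < 1728 ∧ bzptl1.Q (bzptl1.Pt 0) = 0 := by decide +kernel
theorem bzptl2_h : 0 < bzptl2.n ∧ 0 < bzptl2.K ∧ bzptl2.Pt 0 < 1728 ∧ bzptl2.Q (bzptl2.Pt 0) = 0 := by decide +kernel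
theorem bzptl3_h : 0 < bzptl3.n ∧ 0 < bzptl3.K ∧ bzptl3.Pt 0 < 1728 ∧ bzptl3.Q (bzptl3.Pt 0) = 0 := by decide +kernel
theorem bzpt_c : chainCard [bzptl0, bzptl1, bzptl2, bzptl3] = 6635520 := by decide +kernel
theorem bzpe_lt : H16.allL (ltAll 7) bzpe_W = true := by decide +kernel
theorem bzpc0_h : 0 < bzpc0.n ∧ 0 < bzpc0.K ∧ bzpc0.Pt 0 < 1728 ∧ bzpc0.Q (bzpc0.Pt 0) = 0 := by decide +kernel
theorem bzp_c : chainCard [bzpc0] = 4 ∧ topK [bzpc0] = 2 := by decide +kernel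
theorem wb1x_lt : H16.allL (ltAll 7) wb1x_W = true := by decide +kernel
theorem wb1th_lt : H16.allL (ltAll 7) wb1th_W = true := by decide +kernel
theorem wb1tl0_h : 0 < wb1tl0.n ∧ 0 < wb1tl0.K ∧ wb1tl0.Pt 0 < 1728 ∧ wb1tl0.Q (wb1tl0.Pt 0) = 0 := by decide +kernel
theorem wb1tl1_h : 0 < wb1tl1.n ∧ 0 < wb1tl1.K ∧ wb1tl1.Pt 0 < 1728 ∧ wb1tl1.Q (wb1tl1.Pt 0) = 0 := by decide +kernel
theorem wb1tl2_h : 0 < wb1tl2.n ∧ 0 < wb1tl2.K ∧ wb1tl2.Pt 0 < 1728 ∧ wb1tl2.Q (wb1tl2.Pt 0) = 0 := by decide +kernel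
theorem wb1tl3_h : 0 < wb1tl3.n ∧ 0 < wb1tl3.K ∧ wb1tl3.Pt 0 < 1728 ∧ wb1tl3.Q (wb1tl3.Pt 0) = 0 := by decide +kernel
theorem wb1t_c : chainCard [wb1tl0, wb1tl1, wb1tl2, wb1tl3] = 6635520 := by decide +kernel
theorem wb1e_lt : H16.allL (ltAll 7) wb1e_W = true := by decide +kernel
theorem wb1c0_h : 0 < wb1c0.n ∧ 0 < wb1c0.K ∧ wb1c0.Pt 0 < 1728 ∧ wb1c0.Q (wb1c0.Pt 0) = 0 := by decide +kernel
theorem wb1_c : chainCard [wb1c0] = 4 ∧ topK [wb1c0] = 2 := by decide +kernel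
theorem n3x_lt : H16.allL (ltAll 7) n3x_W = true := by decide +kernel
theorem n3th_lt : H16.allL (ltAll 7) n3th_W = true := by decide +kernel
theorem n3tl0_h : 0 < n3tl0.n ∧ 0 < n3tl0.K ∧ n3tl0.Pt 0 < 1728 ∧ n3tl0.Q (n3tl0.Pt 0) = 0 := by decide +kernel
theorem n3tl1_h : 0 < n3tl1.n ∧ 0 < n3tl1.K ∧ n3tl1.Pt 0 < 1728 ∧ n3tl1.Q (n3tl1.Pt 0) = 0 := by decide +kernel
theorem n3tl2_h : 0 < n3tl2.n ∧ 0 < n3tl2.K ∧ n3tl2.Pt 0 < 1728 ∧ n3tl2.Q (n3tl2.Pt 0) = 0 := by decide +kernel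
theorem n3tl3_h : 0 < n3tl3.n ∧ 0 < n3tl3.K ∧ n3tl3.Pt 0 < 1728 ∧ n3tl3.Q (n3tl3.Pt 0) = 0 := by decide +kernel
theorem n3tl4_h : 0 < n3tl4.n ∧ 0 < n3tl4.K ∧ n3tl4.Pt 0 < 1728 ∧ n3tl4.Q (n3tl4.Pt 0) = 0 := by decide +kernel
theorem n3t_c : chainCard [n3tl0, n3tl1, n3tl2, n3tl3, n3tl4] = 6635520 := by decide +kernel
theorem n3e_lt : H16.allL (ltAll 7) n3e_W = true := by decide +kernel
theorem n3c0_h : 0 < n3c0.n ∧ 0 < n3c0.K ∧ n3c0.Pt 0 < 1728 ∧ n3c0.Q (n3c0.Pt 0) = 0 := by decide +kernel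
theorem n3_c : chainCard [n3c0] = 4 ∧ topK [n3c0] = 2 := by decide +kernel
theorem covr_lt : H16.allL (ltAll 7) covr_W = true := by decide +kernel
theorem cj_lt : H16.allL (ltAll 13) cj_W = true := by decide +kernel
theorem cfx_lt : H16.allL (ltAll 7) cfx_W = true := by decide +kernel
theorem cfth_lt : H16.allL (ltAll 7) cfth_W = true := by decide +kernel
theorem cftl0_h : 0 < cftl0.n ∧ 0 < cftl0.K ∧ cftl0.Pt 0 < 1728 ∧ cftl0.Q (cftl0.Pt 0) = 0 := by decide +kernel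
theorem cftl1_h : 0 < cftl1.n ∧ 0 < cftl1.K ∧ cftl1.Pt 0 < 1728 ∧ cftl1.Q (cftl1.Pt 0) = 0 := by decide +kernel
theorem cftl2_h : 0 < cftl2.n ∧ 0 < cftl2.K ∧ cftl2.Pt 0 < 1728 ∧ cftl2.Q (cftl2.Pt 0) = 0 := by decide +kernel
theorem cftl3_h : 0 < cftl3.n ∧ 0 < cftl3.K ∧ cftl3.Pt 0 < 1728 ∧ cftl3.Q (cftl3.Pt 0) = 0 := by decide +kernel
theorem cftl4_h : 0 < cftl4.n ∧ 0 < cftl4.K ∧ cftl4.Pt 0 < 1728 ∧ cftl4.Q (cftl4.Pt 0) = 0 := by decide +kernel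
theorem cft_c : chainCard [cftl0, cftl1, cftl2, cftl3, cftl4] = 6635520 := by decide +kernel
theorem cfe_lt : H16.allL (ltAll 7) cfe_W = true := by decide +kernel
theorem cfc4_h : 0 < cfc4.n ∧ 0 < cfc4.K ∧ cfc4.Pt 0 < 1728 ∧ cfc4.Q (cfc4.Pt 0) = 0 := by decide +kernel
theorem cftn1y1706_lt : H16.allL (ltAll 7) cftn1y1706_W = true := by decide +kernel
theorem cftr2k_lt : H16.allL (ltAll 7) cftr2k_W = true := by decide +kernel
theorem cfc0_h : 0 < cfc0.n ∧ 0 < cfc0.K ∧ cfc0.Pt 0 < 1728 ∧ cfc0.Q (cfc0.Pt 0) = 0 := by decide +kernel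
theorem cf_c : chainCard [cfc0, cfc4] = 768 ∧ topK [cfc0, cfc4] = 5 := by decide +kernel
theorem cgx_lt : H16.allL (ltAll 7) cgx_W = true := by decide +kernel
theorem cgth_lt : H16.allL (ltAll 7) cgth_W = true := by decide +kernel
theorem cgtl0_h : 0 < cgtl0.n ∧ 0 < cgtl0.K ∧ cgtl0.Pt 0 < 1728 ∧ cgtl0.Q (cgtl0.Pt 0) = 0 := by decide +kernel
theorem cgtl1_h : 0 < cgtl1.n ∧ 0 < cgtl1.K ∧ cgtl1.Pt 0 < 1728 ∧ cgtl1.Q (cgtl1.Pt 0) = 0 := by decide +kernel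
theorem cgtl2_h : 0 < cgtl2.n ∧ 0 < cgtl2.K ∧ cgtl2.Pt 0 < 1728 ∧ cgtl2.Q (cgtl2.Pt 0) = 0 := by decide +kernel
theorem cgtl3_h : 0 < cgtl3.n ∧ 0 < cgtl3.K ∧ cgtl3.Pt 0 < 1728 ∧ cgtl3.Q (cgtl3.Pt 0) = 0 := by decide +kernel
theorem cgtl4_h : 0 < cgtl4.n ∧ 0 < cgtl4.K ∧ cgtl4.Pt 0 < 1728 ∧ cgtl4.Q (cgtl4.Pt 0) = 0 := by decide +kernel
theorem cgtl5_h : 0 < cgtl5.n ∧ 0 < cgtl5.K ∧ cgtl5.Pt 0 < 1728 ∧ cgtl5.Q (cgtl5.Pt 0) = 0 := by decide +kernel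
theorem cgt_c : chainCard [cgtl0, cgtl1, cgtl2, cgtl3, cgtl4, cgtl5] = 6635520 := by decide +kernel
theorem cge_lt : H16.allL (ltAll 7) cge_W = true := by decide +kernel
theorem cgc5_h : 0 < cgc5.n ∧ 0 < cgc5.K ∧ cgc5.Pt 0 < 1728 ∧ cgc5.Q (cgc5.Pt 0) = 0 := by decide +kernel
theorem cgc4_h : 0 < cgc4.n ∧ 0 < cgc4.K ∧ cgc4.Pt 0 < 1728 ∧ cgc4.Q (cgc4.Pt 0) = 0 := by decide +kernel
theorem cgtn1y1146_lt : H16.allL (ltAll 7) cgtn1y1146_W = true := by decide +kernel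
theorem cgtr2k_lt : H16.allL (ltAll 7) cgtr2k_W = true := by decide +kernel
theorem cgc2_h : 0 < cgc2.n ∧ 0 < cgc2.K ∧ cgc2.Pt 0 < 1728 ∧ cgc2.Q (cgc2.Pt 0) = 0 := by decide +kernel
theorem cgc1_h : 0 < cgc1.n ∧ 0 < cgc1.K ∧ cgc1.Pt 0 < 1728 ∧ cgc1.Q (cgc1.Pt 0) = 0 := by decide +kernel
theorem cgc0_h : 0 < cgc0.n ∧ 0 < cgc0.K ∧ cgc0.Pt 0 < 1728 ∧ cgc0.Q (cgc0.Pt 0) = 0 := by decide +kernel
theorem cg_c : chainCard [cgc0, cgc1, cgc2, cgc4, cgc5] = 7680 ∧ topK [cgc0, cgc1, cgc2, cgc4, cgc5] = 7 := by decide +kernel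
theorem nfb : 36 < 38 ∧ 37 < 38 ∧ 32 < 1782 ∧ wdsP P wG 37 32 = 32 := by decide +kernel
theorem ctx_lt : H16.allL (ltAll 7) ctx_W = true := by decide +kernel
theorem ctth_lt : H16.allL (ltAll 7) ctth_W = true := by decide +kernel
theorem cttl0_h : 0 < cttl0.n ∧ 0 < cttl0.K ∧ cttl0.Pt 0 < 1728 ∧ cttl0.Q (cttl0.Pt 0) = 0 := by decide +kernel
theorem cttl1_h : 0 < cttl1.n ∧ 0 < cttl1.K ∧ cttl1.Pt 0 < 1728 ∧ cttl1.Q (cttl1.Pt 0) = 0 := by decide +kernel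
theorem cttl2_h : 0 < cttl2.n ∧ 0 < cttl2.K ∧ cttl2.Pt 0 < 1728 ∧ cttl2.Q (cttl2.Pt 0) = 0 := by decide +kernel
theorem cttl3_h : 0 < cttl3.n ∧ 0 < cttl3.K ∧ cttl3.Pt 0 < 1728 ∧ cttl3.Q (cttl3.Pt 0) = 0 := by decide +kernel
theorem ctt_c : chainCard [cttl0, cttl1, cttl2, cttl3] = 6635520 := by decide +kernel
theorem cte_lt : H16.allL (ltAll 7) cte_W = true := by decide +kernel
theorem ctc0_h : 0 < ctc0.n ∧ 0 < ctc0.K ∧ ctc0.Pt 0 < 1728 ∧ ctc0.Q (ctc0.Pt 0) = 0 := by decide +kernel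
theorem ct_c : chainCard [ctc0] = 2 ∧ topK [ctc0] = 1 := by decide +kernel
theorem ckx_lt : H16.allL (ltAll 7) ckx_W = true := by decide +kernel
theorem ckth_lt : H16.allL (ltAll 7) ckth_W = true := by decide +kernel
theorem cktl0_h : 0 < cktl0.n ∧ 0 < cktl0.K ∧ cktl0.Pt 0 < 1728 ∧ cktl0.Q (cktl0.Pt 0) = 0 := by decide +kernel
theorem cktl1_h : 0 < cktl1.n ∧ 0 < cktl1.K ∧ cktl1.Pt 0 < 1728 ∧ cktl1.Q (cktl1.Pt 0) = 0 := by decide +kernel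
theorem cktl2_h : 0 < cktl2.n ∧ 0 < cktl2.K ∧ cktl2.Pt 0 < 1728 ∧ cktl2.Q (cktl2.Pt 0) = 0 := by decide +kernel
theorem cktl3_h : 0 < cktl3.n ∧ 0 < cktl3.K ∧ cktl3.Pt 0 < 1728 ∧ cktl3.Q (cktl3.Pt 0) = 0 := by decide +kernel
theorem ckt_c : chainCard [cktl0, cktl1, cktl2, cktl3] = 6635520 := by decide +kernel
theorem cke_lt : H16.allL (ltAll 7) cke_W = true := by decide +kernel
theorem ckc0_h : 0 < ckc0.n ∧ 0 < ckc0.K ∧ ckc0.Pt 0 < 1728 ∧ ckc0.Q (ckc0.Pt 0) = 0 := by decide +kernel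
theorem ck_c : chainCard [ckc0] = 2 ∧ topK [ckc0] = 1 := by decide +kernel
theorem clx_lt : H16.allL (ltAll 6) clx_W = true := by decide +kernel
theorem clth_lt : H16.allL (ltAll 6) clth_W = true := by decide +kernel
theorem cltl0_h : 0 < cltl0.n ∧ 0 < cltl0.K ∧ cltl0.Pt 0 < 1728 ∧ cltl0.Q (cltl0.Pt 0) = 0 := by decide +kernel
theorem cltl1_h : 0 < cltl1.n ∧ 0 < cltl1.K ∧ cltl1.Pt 0 < 1728 ∧ cltl1.Q (cltl1.Pt 0) = 0 := by decide +kernel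
theorem cltl2_h : 0 < cltl2.n ∧ 0 < cltl2.K ∧ cltl2.Pt 0 < 1728 ∧ cltl2.Q (cltl2.Pt 0) = 0 := by decide +kernel
theorem cltl3_h : 0 < cltl3.n ∧ 0 < cltl3.K ∧ cltl3.Pt 0 < 1728 ∧ cltl3.Q (cltl3.Pt 0) = 0 := by decide +kernel
theorem cltl4_h : 0 < cltl4.n ∧ 0 < cltl4.K ∧ cltl4.Pt 0 < 1728 ∧ cltl4.Q (cltl4.Pt 0) = 0 := by decide +kernel
theorem cltl5_h : 0 < cltl5.n ∧ 0 < cltl5.K ∧ cltl5.Pt 0 < 1728 ∧ cltl5.Q (cltl5.Pt 0) = 0 := by decide +kernel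
theorem clt_c : chainCard [cltl0, cltl1, cltl2, cltl3, cltl4, cltl5] = 3317760 := by decide +kernel
theorem cle_lt : H16.allL (ltAll 6) cle_W = true := by decide +kernel
theorem clc5_h : 0 < clc5.n ∧ 0 < clc5.K ∧ clc5.Pt 0 < 1728 ∧ clc5.Q (clc5.Pt 0) = 0 := by decide +kernel
theorem cltn1y990_lt : H16.allL (ltAll 6) cltn1y990_W = true := by decide +kernel
theorem cltr2k_lt : H16.allL (ltAll 6) cltr2k_W = true := by decide +kernel
theorem clc1_h : 0 < clc1.n ∧ 0 < clc1.K ∧ clc1.Pt 0 < 1728 ∧ clc1.Q (clc1.Pt 0) = 0 := by decide +kernel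
theorem clc0_h : 0 < clc0.n ∧ 0 < clc0.K ∧ clc0.Pt 0 < 1728 ∧ clc0.Q (clc0.Pt 0) = 0 := by decide +kernel
theorem cl_c : chainCard [clc0, clc1, clc5] = 512 ∧ topK [clc0, clc1, clc5] = 7 := by decide +kernel
theorem nu_lt : H16.allL (ltAll 7) nu_W = true := by decide +kernel
theorem cnx_lt : H16.allL (ltAll 6) cnx_W = true := by decide +kernel
theorem cnth_lt : H16.allL (ltAll 6) cnth_W = true := by decide +kernel
theorem cntl0_h : 0 < cntl0.n ∧ 0 < cntl0.K ∧ cntl0.Pt 0 < 1728 ∧ cntl0.Q (cntl0.Pt 0) = 0 := by decide +kernel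
theorem cntl1_h : 0 < cntl1.n ∧ 0 < cntl1.K ∧ cntl1.Pt 0 < 1728 ∧ cntl1.Q (cntl1.Pt 0) = 0 := by decide +kernel
theorem cntl2_h : 0 < cntl2.n ∧ 0 < cntl2.K ∧ cntl2.Pt 0 < 1728 ∧ cntl2.Q (cntl2.Pt 0) = 0 := by decide +kernel
theorem cntl3_h : 0 < cntl3.n ∧ 0 < cntl3.K ∧ cntl3.Pt 0 < 1728 ∧ cntl3.Q (cntl3.Pt 0) = 0 := by decide +kernel
theorem cnt_c : chainCard [cntl0, cntl1, cntl2, cntl3] = 3317760 := by decide +kernel
theorem cne_lt : H16.allL (ltAll 6) cne_W = true := by decide +kernel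
theorem cnc0_h : 0 < cnc0.n ∧ 0 < cnc0.K ∧ cnc0.Pt 0 < 1728 ∧ cnc0.Q (cnc0.Pt 0) = 0 := by decide +kernel
theorem cn_c : chainCard [cnc0] = 4 ∧ topK [cnc0] = 2 := by decide +kernel
theorem zlx_lt : H16.allL (ltAll 7) zlx_W = true := by decide +kernel
theorem zlth_lt : H16.allL (ltAll 7) zlth_W = true := by decide +kernel
theorem zltl0_h : 0 < zltl0.n ∧ 0 < zltl0.K ∧ zltl0.Pt 0 < 1728 ∧ zltl0.Q (zltl0.Pt 0) = 0 := by decide +kernel
theorem zltl1_h : 0 < zltl1.n ∧ 0 < zltl1.K ∧ zltl1.Pt 0 < 1728 ∧ zltl1.Q (zltl1.Pt 0) = 0 := by decide +kernel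
theorem zltl2_h : 0 < zltl2.n ∧ 0 < zltl2.K ∧ zltl2.Pt 0 < 1728 ∧ zltl2.Q (zltl2.Pt 0) = 0 := by decide +kernel
theorem zltl3_h : 0 < zltl3.n ∧ 0 < zltl3.K ∧ zltl3.Pt 0 < 1728 ∧ zltl3.Q (zltl3.Pt 0) = 0 := by decide +kernel
theorem zltl4_h : 0 < zltl4.n ∧ 0 < zltl4.K ∧ zltl4.Pt 0 < 1728 ∧ zltl4.Q (zltl4.Pt 0) = 0 := by decide +kernel
theorem zlt_c : chainCard [zltl0, zltl1, zltl2, zltl3, zltl4] = 6635520 := by decide +kernel
theorem zle_lt : H16.allL (ltAll 7) zle_W = true := by decide +kernel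
theorem zlc0_h : 0 < zlc0.n ∧ 0 < zlc0.K ∧ zlc0.Pt 0 < 1728 ∧ zlc0.Q (zlc0.Pt 0) = 0 := by decide +kernel
theorem zl_c : chainCard [zlc0] = 4 ∧ topK [zlc0] = 2 := by decide +kernel
theorem cpx_lt : H16.allL (ltAll 6) cpx_W = true := by decide +kernel
theorem cpth_lt : H16.allL (ltAll 6) cpth_W = true := by decide +kernel
theorem cptl0_h : 0 < cptl0.n ∧ 0 < cptl0.K ∧ cptl0.Pt 0 < 1728 ∧ cptl0.Q (cptl0.Pt 0) = 0 := by decide +kernel
theorem cptl1_h : 0 < cptl1.n ∧ 0 < cptl1.K ∧ cptl1.Pt 0 < 1728 ∧ cptl1.Q (cptl1.Pt 0) = 0 := by decide +kernel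
theorem cptl2_h : 0 < cptl2.n ∧ 0 < cptl2.K ∧ cptl2.Pt 0 < 1728 ∧ cptl2.Q (cptl2.Pt 0) = 0 := by decide +kernel
theorem cptl3_h : 0 < cptl3.n ∧ 0 < cptl3.K ∧ cptl3.Pt 0 < 1728 ∧ cptl3.Q (cptl3.Pt 0) = 0 := by decide +kernel
theorem cptl4_h : 0 < cptl4.n ∧ 0 < cptl4.K ∧ cptl4.Pt 0 < 1728 ∧ cptl4.Q (cptl4.Pt 0) = 0 := by decide +kernel
theorem cptl5_h : 0 < cptl5.n ∧ 0 < cptl5.K ∧ cptl5.Pt 0 < 1728 ∧ cptl5.Q (cptl5.Pt 0) = 0 := by decide +kernel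
theorem cpt_c : chainCard [cptl0, cptl1, cptl2, cptl3, cptl4, cptl5] = 3317760 := by decide +kernel
theorem cpe_lt : H16.allL (ltAll 6) cpe_W = true := by decide +kernel
theorem cpc5_h : 0 < cpc5.n ∧ 0 < cpc5.K ∧ cpc5.Pt 0 < 1728 ∧ cpc5.Q (cpc5.Pt 0) = 0 := by decide +kernel
theorem cpc1_h : 0 < cpc1.n ∧ 0 < cpc1.K ∧ cpc1.Pt 0 < 1728 ∧ cpc1.Q (cpc1.Pt 0) = 0 := by decide +kernel
theorem cpc0_h : 0 < cpc0.n ∧ 0 < cpc0.K ∧ cpc0.Pt 0 < 1728 ∧ cpc0.Q (cpc0.Pt 0) = 0 := by decide +kernel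
theorem cptn2y1211_lt : H16.allL (ltAll 6) cptn2y1211_W = true := by decide +kernel
theorem cptr3k_lt : H16.allL (ltAll 6) cptr3k_W = true := by decide +kernel
theorem cp_c : chainCard [cpc0, cpc1, cpc5] = 40 ∧ topK [cpc0, cpc1, cpc5] = 3 := by decide +kernel
theorem rq_lt : H16.allL (ltAll 7) rq_W = true := by decide +kernel
theorem cl62a : H16.allL (fun l => ltAll (6 + 1) (l.2.1 ++ l.2.2)) cl62A = true := by decide +kernel
theorem cqth_lt : H16.allL (ltAll 7) cqth_W = true := by decide +kernel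
theorem cqtl0_h : 0 < cqtl0.n ∧ 0 < cqtl0.K ∧ cqtl0.Pt 0 < 1728 ∧ cqtl0.Q (cqtl0.Pt 0) = 0 := by decide +kernel
theorem cqtl1_h : 0 < cqtl1.n ∧ 0 < cqtl1.K ∧ cqtl1.Pt 0 < 1728 ∧ cqtl1.Q (cqtl1.Pt 0) = 0 := by decide +kernel
theorem cqtl2_h : 0 < cqtl2.n ∧ 0 < cqtl2.K ∧ cqtl2.Pt 0 < 1728 ∧ cqtl2.Q (cqtl2.Pt 0) = 0 := by decide +kernel
theorem cqtl3_h : 0 < cqtl3.n ∧ 0 < cqtl3.K ∧ cqtl3.Pt 0 < 1728 ∧ cqtl3.Q (cqtl3.Pt 0) = 0 := by decide +kernel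
theorem cqtl4_h : 0 < cqtl4.n ∧ 0 < cqtl4.K ∧ cqtl4.Pt 0 < 1728 ∧ cqtl4.Q (cqtl4.Pt 0) = 0 := by decide +kernel
theorem cqt_c : chainCard [cqtl0, cqtl1, cqtl2, cqtl3, cqtl4] = 6635520 := by decide +kernel
theorem cqe_lt : H16.allL (ltAll 7) cqe_W = true := by decide +kernel
theorem cqc0_h : 0 < cqc0.n ∧ 0 < cqc0.K ∧ cqc0.Pt 0 < 1728 ∧ cqc0.Q (cqc0.Pt 0) = 0 := by decide +kernel
theorem cq_c : chainCard [cqc0] = 2 ∧ topK [cqc0] = 1 := by decide +kernel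
theorem cvx_lt : H16.allL (ltAll 7) cvx_W = true := by decide +kernel
theorem cvth_lt : H16.allL (ltAll 7) cvth_W = true := by decide +kernel
theorem cvtl0_h : 0 < cvtl0.n ∧ 0 < cvtl0.K ∧ cvtl0.Pt 0 < 1728 ∧ cvtl0.Q (cvtl0.Pt 0) = 0 := by decide +kernel
theorem cvtl1_h : 0 < cvtl1.n ∧ 0 < cvtl1.K ∧ cvtl1.Pt 0 < 1728 ∧ cvtl1.Q (cvtl1.Pt 0) = 0 := by decide +kernel
theorem cvtl2_h : 0 < cvtl2.n ∧ 0 < cvtl2.K ∧ cvtl2.Pt 0 < 1728 ∧ cvtl2.Q (cvtl2.Pt 0) = 0 := by decide +kernel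
theorem cvtl3_h : 0 < cvtl3.n ∧ 0 < cvtl3.K ∧ cvtl3.Pt 0 < 1728 ∧ cvtl3.Q (cvtl3.Pt 0) = 0 := by decide +kernel
theorem cvtl4_h : 0 < cvtl4.n ∧ 0 < cvtl4.K ∧ cvtl4.Pt 0 < 1728 ∧ cvtl4.Q (cvtl4.Pt 0) = 0 := by decide +kernel
theorem cvtl5_h : 0 < cvtl5.n ∧ 0 < cvtl5.K ∧ cvtl5.Pt 0 < 1728 ∧ cvtl5.Q (cvtl5.Pt 0) = 0 := by decide +kernel
theorem cvt_c : chainCard [cvtl0, cvtl1, cvtl2, cvtl3, cvtl4, cvtl5] = 6635520 := by decide +kernel
theorem cve_lt : H16.allL (ltAll 7) cve_W = true := by decide +kernel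
theorem cvc5_h : 0 < cvc5.n ∧ 0 < cvc5.K ∧ cvc5.Pt 0 < 1728 ∧ cvc5.Q (cvc5.Pt 0) = 0 := by decide +kernel
theorem cvc0_h : 0 < cvc0.n ∧ 0 < cvc0.K ∧ cvc0.Pt 0 < 1728 ∧ cvc0.Q (cvc0.Pt 0) = 0 := by decide +kernel
theorem cv_c : chainCard [cvc0, cvc5] = 20 ∧ topK [cvc0, cvc5] = 3 := by decide +kernel
theorem w_lt : H16.allL (ltAll 7) wW = true := by decide +kernel
theorem wG_lt : H16.allL (ltAll 13) wG = true := by decide +kernel
theorem u_lt : H16.allL (ltAll 12) uW = true := by decide +kernel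
theorem en7b_0 : allZ (enEnt wzpe_P en7T en7W (nat_lit 4)) (nat_lit 0) (nat_lit 4) = true := by decide +kernel
theorem cs69_a : allZ2 (cmEnt pf_P pf_P B1) (nat_lit 1) (nat_lit 1) = true := by decide +kernel
theorem cm70 : 2 < 39 ∧ allZ (fun j => H16.force j (cmEnt pf_P (wdsP Tm wW) B1 2)) 0 1 = true := by decide +kernel
theorem me64 : 2 < 39 ∧ ltAll 6 [nat_lit 0, nat_lit 1, nat_lit 3] = 0 ∧ sumL (fun β => Nat.xor ((wdsP Tm wW) 2 β) (apW rq_P [nat_lit 0, nat_lit 1, nat_lit 3] β)) B1 = 0 := by decide +kernel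
theorem cttl2_e_0 : allZ (dent cttl2 ctth_P (nat_lit 1728)) (nat_lit 0) (nat_lit 11) = true := by decide +kernel
theorem me53 : 2 < 39 ∧ ltAll 13 [nat_lit 0, nat_lit 1, nat_lit 2] = 0 ∧ sumL (fun β => Nat.xor ((wdsP Tm wW) 2 β) (apW t_P [nat_lit 0, nat_lit 1, nat_lit 2] β)) B1 = 0 := by decide +kernel
theorem cgtn4_1_0 : allZ (cgtn4.ent Tm cgth_P cgx_P cgx_P cge_P (nat_lit 7) (nat_lit 1) B1 cgtl1 [cgtl2, cgtl3, cgtl4, cgtl5] (memO cgc1)) (nat_lit 0) (nat_lit 10) = true := by decide +kernel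
theorem cqtl2_e_0 : allZ (dent cqtl2 cqth_P (nat_lit 1728)) (nat_lit 0) (nat_lit 9) = true := by decide +kernel
theorem cttl1_e_0 : allZ (dent cttl1 ctth_P (nat_lit 1728)) (nat_lit 0) (nat_lit 9) = true := by decide +kernel
theorem zltl1_e_0 : allZ (dent zltl1 zlth_P (nat_lit 1728)) (nat_lit 0) (nat_lit 9) = true := by decide +kernel
theorem cvc0_e_0 : allZ (dent cvc0 cve_P (nat_lit 1728)) (nat_lit 0) (nat_lit 9) = true := by decide +kernel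
theorem cltl1_e_0 : allZ (dent cltl1 clth_P (nat_lit 1728)) (nat_lit 0) (nat_lit 9) = true := by decide +kernel
theorem cgtl1_e_0 : allZ (dent cgtl1 cgth_P (nat_lit 1728)) (nat_lit 0) (nat_lit 9) = true := by decide +kernel
theorem cptl1_e_0 : allZ (dent cptl1 cpth_P (nat_lit 1728)) (nat_lit 0) (nat_lit 9) = true := by decide +kernel
theorem cv_f4 : (Nat.ble cvtl4.K 13 && Nat.blt (nat_lit 94) 1728 && fixLetters cvth_P cvtl4.K (nat_lit 94) && Nat.beq (ltAll 2 [nat_lit 0, nat_lit 0, nat_lit 0, nat_lit 0]) 0 && Nat.beq (apW cvx_P [nat_lit 0, nat_lit 0, nat_lit 0, nat_lit 0] (nat_lit 94)) (cvtl4.Pt 0)) = true := by decide +kernel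
theorem n3tl2_e_0 : allZ (dent n3tl2 n3th_P (nat_lit 1728)) (nat_lit 0) (nat_lit 9) = true := by decide +kernel
theorem me68 : 0 < 39 ∧ ltAll 6 [nat_lit 0, nat_lit 0] = 0 ∧ sumL (fun β => Nat.xor ((wdsP Tm wW) 0 β) (apW rq_P [nat_lit 0, nat_lit 0] β)) B1 = 0 := by decide +kernel
theorem cv_f3 : (Nat.ble cvtl3.K 13 && Nat.blt (nat_lit 94) 1728 && fixLetters cvth_P cvtl3.K (nat_lit 94) && Nat.beq (ltAll 2 [nat_lit 0, nat_lit 0, nat_lit 0]) 0 && Nat.beq (apW cvx_P [nat_lit 0, nat_lit 0, nat_lit 0] (nat_lit 94)) (cvtl3.Pt 0)) = true := by decide +kernel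
theorem bzp_f1 : (Nat.ble bzptl1.K 13 && Nat.blt (nat_lit 81) 1728 && fixLetters bzpth_P bzptl1.K (nat_lit 81) && Nat.beq (ltAll 2 [nat_lit 1, nat_lit 1, nat_lit 1]) 0 && Nat.beq (apW bzpx_P [nat_lit 1, nat_lit 1, nat_lit 1] (nat_lit 81)) (bzptl1.Pt 0)) = true := by decide +kernel
theorem wb1tl1_e_0 : allZ (dent wb1tl1 wb1th_P (nat_lit 1728)) (nat_lit 0) (nat_lit 9) = true := by decide +kernel
theorem wzp_f2 : (Nat.ble wzptl2.K 14 && Nat.blt (nat_lit 372) 1728 && fixLetters wzpth_P wzptl2.K (nat_lit 372) && Nat.beq (ltAll 2 [nat_lit 1, nat_lit 1]) 0 && Nat.beq (apW wzpx_P [nat_lit 1, nat_lit 1] (nat_lit 372)) (wzptl2.Pt 0)) = true := by decide +kernel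
theorem cf_f3 : (Nat.ble cftl3.K 15 && Nat.blt (nat_lit 76) 1728 && fixLetters cfth_P cftl3.K (nat_lit 76) && Nat.beq (ltAll 1 [nat_lit 0]) 0 && Nat.beq (apW cfx_P [nat_lit 0] (nat_lit 76)) (cftl3.Pt 0)) = true := by decide +kernel
theorem cf_f1 : (Nat.ble cftl1.K 15 && Nat.blt (nat_lit 0) 1728 && fixLetters cfth_P cftl1.K (nat_lit 0) && Nat.beq (ltAll 1 [nat_lit 0]) 0 && Nat.beq (apW cfx_P [nat_lit 0] (nat_lit 0)) (cftl1.Pt 0)) = true := by decide +kernel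
theorem cl34_0 : allZ (clEnt cte_P (wdsP Tm wW) 38 39 B1 cl34L en33W) (nat_lit 0) (nat_lit 2) = true := by decide +kernel
theorem cl66_0 : allZ (clEnt cqe_P (wdsP Tm wW) 38 39 B1 cl66L en65W) (nat_lit 0) (nat_lit 2) = true := by decide +kernel
theorem cm6 : 1 < 39 ∧ allZ (fun j => H16.force j (cmEnt pf_P (wdsP Tm wW) B1 1)) 0 1 = true := by decide +kernel
theorem ct_f1 : (Nat.ble cttl1.K 13 && Nat.blt (nat_lit 89) 1728 && fixLetters ctth_P cttl1.K (nat_lit 89) && Nat.beq (ltAll 4 [nat_lit 2, nat_lit 1]) 0 && Nat.beq (apW ctx_P [nat_lit 2, nat_lit 1] (nat_lit 89)) (cttl1.Pt 0)) = true := by decide +kernel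
theorem cft_f4 : (Nat.ble cftl4.K 15 && Nat.ble (topK []) cftl4.K && fixLetters cfth_P (topK []) (cftl4.Pt 0)) = true := by decide +kernel
theorem cft_f3 : (Nat.ble cftl3.K 15 && Nat.ble (topK [cftl4]) cftl3.K && fixLetters cfth_P (topK [cftl4]) (cftl3.Pt 0)) = true := by decide +kernel
theorem cft_f2 : (Nat.ble cftl2.K 15 && Nat.ble (topK [cftl3, cftl4]) cftl2.K && fixLetters cfth_P (topK [cftl3, cftl4]) (cftl2.Pt 0)) = true := by decide +kernel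
theorem cft_f1 : (Nat.ble cftl1.K 15 && Nat.ble (topK [cftl2, cftl3, cftl4]) cftl1.K && fixLetters cfth_P (topK [cftl2, cftl3, cftl4]) (cftl1.Pt 0)) = true := by decide +kernel
theorem cft_f0 : (Nat.ble cftl0.K 15 && Nat.ble (topK [cftl1, cftl2, cftl3, cftl4]) cftl0.K && fixLetters cfth_P (topK [cftl1, cftl2, cftl3, cftl4]) (cftl0.Pt 0)) = true := by decide +kernel
theorem cgtl2_e_0 : allZ (dent cgtl2 cgth_P (nat_lit 1728)) (nat_lit 0) (nat_lit 7) = true := by decide +kernel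
theorem cp_f4 : (Nat.ble cptl4.K 12 && Nat.blt (nat_lit 12) 1728 && fixLetters cpth_P cptl4.K (nat_lit 12) && Nat.beq (ltAll 1 [nat_lit 0, nat_lit 0, nat_lit 0]) 0 && Nat.beq (apW cpx_P [nat_lit 0, nat_lit 0, nat_lit 0] (nat_lit 12)) (cptl4.Pt 0)) = true := by decide +kernel
theorem ct_f2 : (Nat.ble cttl2.K 13 && Nat.blt (nat_lit 89) 1728 && fixLetters ctth_P cttl2.K (nat_lit 89) && Nat.beq (ltAll 4 [nat_lit 0, nat_lit 3]) 0 && Nat.beq (apW ctx_P [nat_lit 0, nat_lit 3] (nat_lit 89)) (cttl2.Pt 0)) = true := by decide +kernel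
theorem bzp_f2 : (Nat.ble bzptl2.K 13 && Nat.blt (nat_lit 81) 1728 && fixLetters bzpth_P bzptl2.K (nat_lit 81) && Nat.beq (ltAll 2 [nat_lit 0, nat_lit 1]) 0 && Nat.beq (apW bzpx_P [nat_lit 0, nat_lit 1] (nat_lit 81)) (bzptl2.Pt 0)) = true := by decide +kernel
theorem cv_f2 : (Nat.ble cvtl2.K 13 && Nat.blt (nat_lit 94) 1728 && fixLetters cvth_P cvtl2.K (nat_lit 94) && Nat.beq (ltAll 2 [nat_lit 0, nat_lit 0]) 0 && Nat.beq (apW cvx_P [nat_lit 0, nat_lit 0] (nat_lit 94)) (cvtl2.Pt 0)) = true := by decide +kernel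
theorem cltl2_e_0 : allZ (dent cltl2 clth_P (nat_lit 1728)) (nat_lit 0) (nat_lit 7) = true := by decide +kernel
theorem zltl2_e_0 : allZ (dent zltl2 zlth_P (nat_lit 1728)) (nat_lit 0) (nat_lit 7) = true := by decide +kernel
theorem wzp_f1 : (Nat.ble wzptl1.K 14 && Nat.blt (nat_lit 372) 1728 && fixLetters wzpth_P wzptl1.K (nat_lit 372) && Nat.beq (ltAll 2 [nat_lit 1]) 0 && Nat.beq (apW wzpx_P [nat_lit 1] (nat_lit 372)) (wzptl1.Pt 0)) = true := by decide +kernel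
theorem wb1_f3 : (Nat.ble wb1tl3.K 13 && Nat.blt (nat_lit 12) 1728 && fixLetters wb1th_P wb1tl3.K (nat_lit 12) && Nat.beq (ltAll 2 [nat_lit 0, nat_lit 1]) 0 && Nat.beq (apW wb1x_P [nat_lit 0, nat_lit 1] (nat_lit 12)) (wb1tl3.Pt 0)) = true := by decide +kernel
theorem cptl2_e_0 : allZ (dent cptl2 cpth_P (nat_lit 1728)) (nat_lit 0) (nat_lit 7) = true := by decide +kernel
theorem cg_f3 : (Nat.ble cgtl3.K 14 && Nat.blt (nat_lit 681) 1728 && fixLetters cgth_P cgtl3.K (nat_lit 681) && Nat.beq (ltAll 1 [nat_lit 0]) 0 && Nat.beq (apW cgx_P [nat_lit 0] (nat_lit 681)) (cgtl3.Pt 0)) = true := by decide +kernel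
theorem cl_f4 : (Nat.ble cltl4.K 13 && Nat.blt (nat_lit 606) 1728 && fixLetters clth_P cltl4.K (nat_lit 606) && Nat.beq (ltAll 1 [nat_lit 0]) 0 && Nat.beq (apW clx_P [nat_lit 0] (nat_lit 606)) (cltl4.Pt 0)) = true := by decide +kernel
theorem cl_f2 : (Nat.ble cltl2.K 13 && Nat.blt (nat_lit 63) 1728 && fixLetters clth_P cltl2.K (nat_lit 63) && Nat.beq (ltAll 1 [nat_lit 0]) 0 && Nat.beq (apW clx_P [nat_lit 0] (nat_lit 63)) (cltl2.Pt 0)) = true := by decide +kernel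
theorem zl_f4 : (Nat.ble zltl4.K 13 && Nat.blt (nat_lit 70) 1728 && fixLetters zlth_P zltl4.K (nat_lit 70) && Nat.beq (ltAll 7 [nat_lit 5]) 0 && Nat.beq (apW zlx_P [nat_lit 5] (nat_lit 70)) (zltl4.Pt 0)) = true := by decide +kernel
theorem ct_f3 : (Nat.ble cttl3.K 13 && Nat.blt (nat_lit 89) 1728 && fixLetters ctth_P cttl3.K (nat_lit 89) && Nat.beq (ltAll 4 [nat_lit 3]) 0 && Nat.beq (apW ctx_P [nat_lit 3] (nat_lit 89)) (cttl3.Pt 0)) = true := by decide +kernel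
theorem cp_f3 : (Nat.ble cptl3.K 12 && Nat.blt (nat_lit 12) 1728 && fixLetters cpth_P cptl3.K (nat_lit 12) && Nat.beq (ltAll 1 [nat_lit 0, nat_lit 0]) 0 && Nat.beq (apW cpx_P [nat_lit 0, nat_lit 0] (nat_lit 12)) (cptl3.Pt 0)) = true := by decide +kernel
theorem zl_f2 : (Nat.ble zltl2.K 13 && Nat.blt (nat_lit 70) 1728 && fixLetters zlth_P zltl2.K (nat_lit 70) && Nat.beq (ltAll 7 [nat_lit 6]) 0 && Nat.beq (apW zlx_P [nat_lit 6] (nat_lit 70)) (zltl2.Pt 0)) = true := by decide +kernel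
theorem n3_f1 : (Nat.ble n3tl1.K 13 && Nat.blt (nat_lit 8) 1728 && fixLetters n3th_P n3tl1.K (nat_lit 8) && Nat.beq (ltAll 5 [nat_lit 3]) 0 && Nat.beq (apW n3x_P [nat_lit 3] (nat_lit 8)) (n3tl1.Pt 0)) = true := by decide +kernel
theorem cq_f1 : (Nat.ble cqtl1.K 13 && Nat.blt (nat_lit 16) 1728 && fixLetters cqth_P cqtl1.K (nat_lit 16) && Nat.beq (ltAll 6 [nat_lit 3]) 0 && Nat.beq (apW rq_P [nat_lit 3] (nat_lit 16)) (cqtl1.Pt 0)) = true := by decide +kernel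
theorem n3_f2 : (Nat.ble n3tl2.K 13 && Nat.blt (nat_lit 8) 1728 && fixLetters n3th_P n3tl2.K (nat_lit 8) && Nat.beq (ltAll 5 [nat_lit 1]) 0 && Nat.beq (apW n3x_P [nat_lit 1] (nat_lit 8)) (n3tl2.Pt 0)) = true := by decide +kernel
theorem cq_f3 : (Nat.ble cqtl3.K 13 && Nat.blt (nat_lit 16) 1728 && fixLetters cqth_P cqtl3.K (nat_lit 16) && Nat.beq (ltAll 6 [nat_lit 0]) 0 && Nat.beq (apW rq_P [nat_lit 0] (nat_lit 16)) (cqtl3.Pt 0)) = true := by decide +kernel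
theorem cv_f1 : (Nat.ble cvtl1.K 13 && Nat.blt (nat_lit 94) 1728 && fixLetters cvth_P cvtl1.K (nat_lit 94) && Nat.beq (ltAll 2 [nat_lit 0]) 0 && Nat.beq (apW cvx_P [nat_lit 0] (nat_lit 94)) (cvtl1.Pt 0)) = true := by decide +kernel
theorem ck_f3 : (Nat.ble cktl3.K 12 && Nat.blt (nat_lit 203) 1728 && fixLetters ckth_P cktl3.K (nat_lit 203) && Nat.beq (ltAll 2 [nat_lit 1, nat_lit 0]) 0 && Nat.beq (apW ckx_P [nat_lit 1, nat_lit 0] (nat_lit 203)) (cktl3.Pt 0)) = true := by decide +kernel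
theorem cq_f4 : (Nat.ble cqtl4.K 13 && Nat.blt (nat_lit 16) 1728 && fixLetters cqth_P cqtl4.K (nat_lit 16) && Nat.beq (ltAll 6 [nat_lit 4]) 0 && Nat.beq (apW rq_P [nat_lit 4] (nat_lit 16)) (cqtl4.Pt 0)) = true := by decide +kernel
theorem cgtn3_1_0 : allZ (cgtn3.ent Tm cgth_P cgx_P cgx_P cge_P (nat_lit 7) (nat_lit 1) B1 cgtl2 [cgtl3, cgtl4, cgtl5] (memO cgc2)) (nat_lit 0) (nat_lit 8) = true := by decide +kernel
theorem bzp_f3 : (Nat.ble bzptl3.K 13 && Nat.blt (nat_lit 81) 1728 && fixLetters bzpth_P bzptl3.K (nat_lit 81) && Nat.beq (ltAll 2 [nat_lit 1]) 0 && Nat.beq (apW bzpx_P [nat_lit 1] (nat_lit 81)) (bzptl3.Pt 0)) = true := by decide +kernel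
theorem zl_f3 : (Nat.ble zltl3.K 13 && Nat.blt (nat_lit 70) 1728 && fixLetters zlth_P zltl3.K (nat_lit 70) && Nat.beq (ltAll 7 [nat_lit 0]) 0 && Nat.beq (apW zlx_P [nat_lit 0] (nat_lit 70)) (zltl3.Pt 0)) = true := by decide +kernel
theorem ck_f2 : (Nat.ble cktl2.K 12 && Nat.blt (nat_lit 203) 1728 && fixLetters ckth_P cktl2.K (nat_lit 203) && Nat.beq (ltAll 2 [nat_lit 1, nat_lit 1]) 0 && Nat.beq (apW ckx_P [nat_lit 1, nat_lit 1] (nat_lit 203)) (cktl2.Pt 0)) = true := by decide +kernel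
theorem n3_f4 : (Nat.ble n3tl4.K 13 && Nat.blt (nat_lit 8) 1728 && fixLetters n3th_P n3tl4.K (nat_lit 8) && Nat.beq (ltAll 5 [nat_lit 4]) 0 && Nat.beq (apW n3x_P [nat_lit 4] (nat_lit 8)) (n3tl4.Pt 0)) = true := by decide +kernel
theorem clc1_e_0 : allZ (dent clc1 cle_P (nat_lit 1728)) (nat_lit 0) (nat_lit 7) = true := by decide +kernel
theorem zl_f1 : (Nat.ble zltl1.K 13 && Nat.blt (nat_lit 70) 1728 && fixLetters zlth_P zltl1.K (nat_lit 70) && Nat.beq (ltAll 7 [nat_lit 1]) 0 && Nat.beq (apW zlx_P [nat_lit 1] (nat_lit 70)) (zltl1.Pt 0)) = true := by decide +kernel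
theorem wb1_f2 : (Nat.ble wb1tl2.K 13 && Nat.blt (nat_lit 12) 1728 && fixLetters wb1th_P wb1tl2.K (nat_lit 12) && Nat.beq (ltAll 2 [nat_lit 0]) 0 && Nat.beq (apW wb1x_P [nat_lit 0] (nat_lit 12)) (wb1tl2.Pt 0)) = true := by decide +kernel
theorem wzpt_f2 : (Nat.ble wzptl2.K 14 && Nat.ble (topK []) wzptl2.K && fixLetters wzpth_P (topK []) (wzptl2.Pt 0)) = true := by decide +kernel
theorem wzpt_f1 : (Nat.ble wzptl1.K 14 && Nat.ble (topK [wzptl2]) wzptl1.K && fixLetters wzpth_P (topK [wzptl2]) (wzptl1.Pt 0)) = true := by decide +kernel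
theorem wzpt_f0 : (Nat.ble wzptl0.K 14 && Nat.ble (topK [wzptl1, wzptl2]) wzptl0.K && fixLetters wzpth_P (topK [wzptl1, wzptl2]) (wzptl0.Pt 0)) = true := by decide +kernel
theorem wb1_f1 : (Nat.ble wb1tl1.K 13 && Nat.blt (nat_lit 12) 1728 && fixLetters wb1th_P wb1tl1.K (nat_lit 12) && Nat.beq (ltAll 2 [nat_lit 1]) 0 && Nat.beq (apW wb1x_P [nat_lit 1] (nat_lit 12)) (wb1tl1.Pt 0)) = true := by decide +kernel
theorem cq_f2 : (Nat.ble cqtl2.K 13 && Nat.blt (nat_lit 16) 1728 && fixLetters cqth_P cqtl2.K (nat_lit 16) && Nat.beq (ltAll 6 [nat_lit 2]) 0 && Nat.beq (apW rq_P [nat_lit 2] (nat_lit 16)) (cqtl2.Pt 0)) = true := by decide +kernel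
theorem n3_f3 : (Nat.ble n3tl3.K 13 && Nat.blt (nat_lit 8) 1728 && fixLetters n3th_P n3tl3.K (nat_lit 8) && Nat.beq (ltAll 5 [nat_lit 0]) 0 && Nat.beq (apW n3x_P [nat_lit 0] (nat_lit 8)) (n3tl3.Pt 0)) = true := by decide +kernel
theorem clt_f5 : (Nat.ble cltl5.K 13 && Nat.ble (topK []) cltl5.K && fixLetters clth_P (topK []) (cltl5.Pt 0)) = true := by decide +kernel
theorem clt_f4 : (Nat.ble cltl4.K 13 && Nat.ble (topK [cltl5]) cltl4.K && fixLetters clth_P (topK [cltl5]) (cltl4.Pt 0)) = true := by decide +kernel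
theorem clt_f3 : (Nat.ble cltl3.K 13 && Nat.ble (topK [cltl4, cltl5]) cltl3.K && fixLetters clth_P (topK [cltl4, cltl5]) (cltl3.Pt 0)) = true := by decide +kernel
theorem clt_f2 : (Nat.ble cltl2.K 13 && Nat.ble (topK [cltl3, cltl4, cltl5]) cltl2.K && fixLetters clth_P (topK [cltl3, cltl4, cltl5]) (cltl2.Pt 0)) = true := by decide +kernel
theorem clt_f1 : (Nat.ble cltl1.K 13 && Nat.ble (topK [cltl2, cltl3, cltl4, cltl5]) cltl1.K && fixLetters clth_P (topK [cltl2, cltl3, cltl4, cltl5]) (cltl1.Pt 0)) = true := by decide +kernel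
theorem clt_f0 : (Nat.ble cltl0.K 13 && Nat.ble (topK [cltl1, cltl2, cltl3, cltl4, cltl5]) cltl0.K && fixLetters clth_P (topK [cltl1, cltl2, cltl3, cltl4, cltl5]) (cltl0.Pt 0)) = true := by decide +kernel
theorem cn_f3 : (Nat.ble cntl3.K 11 && Nat.blt (nat_lit 22) 1728 && fixLetters cnth_P cntl3.K (nat_lit 22) && Nat.beq (ltAll 4 [nat_lit 0, nat_lit 3]) 0 && Nat.beq (apW cnx_P [nat_lit 0, nat_lit 3] (nat_lit 22)) (cntl3.Pt 0)) = true := by decide +kernel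
theorem cgt_f5 : (Nat.ble cgtl5.K 14 && Nat.ble (topK []) cgtl5.K && fixLetters cgth_P (topK []) (cgtl5.Pt 0)) = true := by decide +kernel
theorem cgt_f4 : (Nat.ble cgtl4.K 14 && Nat.ble (topK [cgtl5]) cgtl4.K && fixLetters cgth_P (topK [cgtl5]) (cgtl4.Pt 0)) = true := by decide +kernel
theorem cgt_f3 : (Nat.ble cgtl3.K 14 && Nat.ble (topK [cgtl4, cgtl5]) cgtl3.K && fixLetters cgth_P (topK [cgtl4, cgtl5]) (cgtl3.Pt 0)) = true := by decide +kernel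
theorem cgt_f2 : (Nat.ble cgtl2.K 14 && Nat.ble (topK [cgtl3, cgtl4, cgtl5]) cgtl2.K && fixLetters cgth_P (topK [cgtl3, cgtl4, cgtl5]) (cgtl2.Pt 0)) = true := by decide +kernel
theorem cgt_f1 : (Nat.ble cgtl1.K 14 && Nat.ble (topK [cgtl2, cgtl3, cgtl4, cgtl5]) cgtl1.K && fixLetters cgth_P (topK [cgtl2, cgtl3, cgtl4, cgtl5]) (cgtl1.Pt 0)) = true := by decide +kernel
theorem cgt_f0 : (Nat.ble cgtl0.K 14 && Nat.ble (topK [cgtl1, cgtl2, cgtl3, cgtl4, cgtl5]) cgtl0.K && fixLetters cgth_P (topK [cgtl1, cgtl2, cgtl3, cgtl4, cgtl5]) (cgtl0.Pt 0)) = true := by decide +kernel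
theorem ctt_f3 : (Nat.ble cttl3.K 13 && Nat.ble (topK []) cttl3.K && fixLetters ctth_P (topK []) (cttl3.Pt 0)) = true := by decide +kernel
theorem ctt_f2 : (Nat.ble cttl2.K 13 && Nat.ble (topK [cttl3]) cttl2.K && fixLetters ctth_P (topK [cttl3]) (cttl2.Pt 0)) = true := by decide +kernel
theorem ctt_f1 : (Nat.ble cttl1.K 13 && Nat.ble (topK [cttl2, cttl3]) cttl1.K && fixLetters ctth_P (topK [cttl2, cttl3]) (cttl1.Pt 0)) = true := by decide +kernel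
theorem ctt_f0 : (Nat.ble cttl0.K 13 && Nat.ble (topK [cttl1, cttl2, cttl3]) cttl0.K && fixLetters ctth_P (topK [cttl1, cttl2, cttl3]) (cttl0.Pt 0)) = true := by decide +kernel
theorem zlt_f4 : (Nat.ble zltl4.K 13 && Nat.ble (topK []) zltl4.K && fixLetters zlth_P (topK []) (zltl4.Pt 0)) = true := by decide +kernel
theorem zlt_f3 : (Nat.ble zltl3.K 13 && Nat.ble (topK [zltl4]) zltl3.K && fixLetters zlth_P (topK [zltl4]) (zltl3.Pt 0)) = true := by decide +kernel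
theorem zlt_f2 : (Nat.ble zltl2.K 13 && Nat.ble (topK [zltl3, zltl4]) zltl2.K && fixLetters zlth_P (topK [zltl3, zltl4]) (zltl2.Pt 0)) = true := by decide +kernel
theorem zlt_f1 : (Nat.ble zltl1.K 13 && Nat.ble (topK [zltl2, zltl3, zltl4]) zltl1.K && fixLetters zlth_P (topK [zltl2, zltl3, zltl4]) (zltl1.Pt 0)) = true := by decide +kernel
theorem zlt_f0 : (Nat.ble zltl0.K 13 && Nat.ble (topK [zltl1, zltl2, zltl3, zltl4]) zltl0.K && fixLetters zlth_P (topK [zltl1, zltl2, zltl3, zltl4]) (zltl0.Pt 0)) = true := by decide +kernel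
theorem cqt_f4 : (Nat.ble cqtl4.K 13 && Nat.ble (topK []) cqtl4.K && fixLetters cqth_P (topK []) (cqtl4.Pt 0)) = true := by decide +kernel
theorem cqt_f3 : (Nat.ble cqtl3.K 13 && Nat.ble (topK [cqtl4]) cqtl3.K && fixLetters cqth_P (topK [cqtl4]) (cqtl3.Pt 0)) = true := by decide +kernel
theorem cqt_f2 : (Nat.ble cqtl2.K 13 && Nat.ble (topK [cqtl3, cqtl4]) cqtl2.K && fixLetters cqth_P (topK [cqtl3, cqtl4]) (cqtl2.Pt 0)) = true := by decide +kernel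
theorem cqt_f1 : (Nat.ble cqtl1.K 13 && Nat.ble (topK [cqtl2, cqtl3, cqtl4]) cqtl1.K && fixLetters cqth_P (topK [cqtl2, cqtl3, cqtl4]) (cqtl1.Pt 0)) = true := by decide +kernel
theorem cqt_f0 : (Nat.ble cqtl0.K 13 && Nat.ble (topK [cqtl1, cqtl2, cqtl3, cqtl4]) cqtl0.K && fixLetters cqth_P (topK [cqtl1, cqtl2, cqtl3, cqtl4]) (cqtl0.Pt 0)) = true := by decide +kernel
theorem cp_f2 : (Nat.ble cptl2.K 12 && Nat.blt (nat_lit 12) 1728 && fixLetters cpth_P cptl2.K (nat_lit 12) && Nat.beq (ltAll 1 [nat_lit 0]) 0 && Nat.beq (apW cpx_P [nat_lit 0] (nat_lit 12)) (cptl2.Pt 0)) = true := by decide +kernel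
theorem cvt_f5 : (Nat.ble cvtl5.K 13 && Nat.ble (topK []) cvtl5.K && fixLetters cvth_P (topK []) (cvtl5.Pt 0)) = true := by decide +kernel
theorem cvt_f4 : (Nat.ble cvtl4.K 13 && Nat.ble (topK [cvtl5]) cvtl4.K && fixLetters cvth_P (topK [cvtl5]) (cvtl4.Pt 0)) = true := by decide +kernel
theorem cvt_f3 : (Nat.ble cvtl3.K 13 && Nat.ble (topK [cvtl4, cvtl5]) cvtl3.K && fixLetters cvth_P (topK [cvtl4, cvtl5]) (cvtl3.Pt 0)) = true := by decide +kernel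
theorem cvt_f2 : (Nat.ble cvtl2.K 13 && Nat.ble (topK [cvtl3, cvtl4, cvtl5]) cvtl2.K && fixLetters cvth_P (topK [cvtl3, cvtl4, cvtl5]) (cvtl2.Pt 0)) = true := by decide +kernel
theorem cvt_f1 : (Nat.ble cvtl1.K 13 && Nat.ble (topK [cvtl2, cvtl3, cvtl4, cvtl5]) cvtl1.K && fixLetters cvth_P (topK [cvtl2, cvtl3, cvtl4, cvtl5]) (cvtl1.Pt 0)) = true := by decide +kernel
theorem cvt_f0 : (Nat.ble cvtl0.K 13 && Nat.ble (topK [cvtl1, cvtl2, cvtl3, cvtl4, cvtl5]) cvtl0.K && fixLetters cvth_P (topK [cvtl1, cvtl2, cvtl3, cvtl4, cvtl5]) (cvtl0.Pt 0)) = true := by decide +kernel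
theorem ck_f1 : (Nat.ble cktl1.K 12 && Nat.blt (nat_lit 203) 1728 && fixLetters ckth_P cktl1.K (nat_lit 203) && Nat.beq (ltAll 2 [nat_lit 1]) 0 && Nat.beq (apW ckx_P [nat_lit 1] (nat_lit 203)) (cktl1.Pt 0)) = true := by decide +kernel
theorem bzpt_f3 : (Nat.ble bzptl3.K 13 && Nat.ble (topK []) bzptl3.K && fixLetters bzpth_P (topK []) (bzptl3.Pt 0)) = true := by decide +kernel
theorem bzpt_f2 : (Nat.ble bzptl2.K 13 && Nat.ble (topK [bzptl3]) bzptl2.K && fixLetters bzpth_P (topK [bzptl3]) (bzptl2.Pt 0)) = true := by decide +kernel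
theorem bzpt_f1 : (Nat.ble bzptl1.K 13 && Nat.ble (topK [bzptl2, bzptl3]) bzptl1.K && fixLetters bzpth_P (topK [bzptl2, bzptl3]) (bzptl1.Pt 0)) = true := by decide +kernel
theorem bzpt_f0 : (Nat.ble bzptl0.K 13 && Nat.ble (topK [bzptl1, bzptl2, bzptl3]) bzptl0.K && fixLetters bzpth_P (topK [bzptl1, bzptl2, bzptl3]) (bzptl0.Pt 0)) = true := by decide +kernel
theorem n3t_f4 : (Nat.ble n3tl4.K 13 && Nat.ble (topK []) n3tl4.K && fixLetters n3th_P (topK []) (n3tl4.Pt 0)) = true := by decide +kernel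
theorem n3t_f3 : (Nat.ble n3tl3.K 13 && Nat.ble (topK [n3tl4]) n3tl3.K && fixLetters n3th_P (topK [n3tl4]) (n3tl3.Pt 0)) = true := by decide +kernel
theorem n3t_f2 : (Nat.ble n3tl2.K 13 && Nat.ble (topK [n3tl3, n3tl4]) n3tl2.K && fixLetters n3th_P (topK [n3tl3, n3tl4]) (n3tl2.Pt 0)) = true := by decide +kernel
theorem n3t_f1 : (Nat.ble n3tl1.K 13 && Nat.ble (topK [n3tl2, n3tl3, n3tl4]) n3tl1.K && fixLetters n3th_P (topK [n3tl2, n3tl3, n3tl4]) (n3tl1.Pt 0)) = true := by decide +kernel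
theorem n3t_f0 : (Nat.ble n3tl0.K 13 && Nat.ble (topK [n3tl1, n3tl2, n3tl3, n3tl4]) n3tl0.K && fixLetters n3th_P (topK [n3tl1, n3tl2, n3tl3, n3tl4]) (n3tl0.Pt 0)) = true := by decide +kernel
theorem en33b_0 : allZ (enEnt cte_P en33T en33W (nat_lit 4)) (nat_lit 0) (nat_lit 2) = true := by decide +kernel
theorem en65b_0 : allZ (enEnt cqe_P en65T en65W (nat_lit 4)) (nat_lit 0) (nat_lit 2) = true := by decide +kernel
theorem wb1t_f3 : (Nat.ble wb1tl3.K 13 && Nat.ble (topK []) wb1tl3.K && fixLetters wb1th_P (topK []) (wb1tl3.Pt 0)) = true := by decide +kernel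
theorem wb1t_f2 : (Nat.ble wb1tl2.K 13 && Nat.ble (topK [wb1tl3]) wb1tl2.K && fixLetters wb1th_P (topK [wb1tl3]) (wb1tl2.Pt 0)) = true := by decide +kernel
theorem wb1t_f1 : (Nat.ble wb1tl1.K 13 && Nat.ble (topK [wb1tl2, wb1tl3]) wb1tl1.K && fixLetters wb1th_P (topK [wb1tl2, wb1tl3]) (wb1tl1.Pt 0)) = true := by decide +kernel
theorem wb1t_f0 : (Nat.ble wb1tl0.K 13 && Nat.ble (topK [wb1tl1, wb1tl2, wb1tl3]) wb1tl0.K && fixLetters wb1th_P (topK [wb1tl1, wb1tl2, wb1tl3]) (wb1tl0.Pt 0)) = true := by decide +kernel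
theorem cltn3_1_0 : allZ (cltn3.ent Tm clth_P clx_P clx_P cle_P (nat_lit 6) (nat_lit 1) B1 cltl1 [cltl2, cltl3, cltl4, cltl5] (memO clc1)) (nat_lit 0) (nat_lit 10) = true := by decide +kernel
theorem cn_f1 : (Nat.ble cntl1.K 11 && Nat.blt (nat_lit 22) 1728 && fixLetters cnth_P cntl1.K (nat_lit 22) && Nat.beq (ltAll 4 [nat_lit 2]) 0 && Nat.beq (apW cnx_P [nat_lit 2] (nat_lit 22)) (cntl1.Pt 0)) = true := by decide +kernel
theorem en33a_a : allZ2 (tupEnt cte_P en33T en33N (nat_lit 1728) (nat_lit 2) (nat_lit 4)) (nat_lit 1) (nat_lit 2) = true := by decide +kernel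
theorem en65a_a : allZ2 (tupEnt cqe_P en65T en65N (nat_lit 1728) (nat_lit 2) (nat_lit 4)) (nat_lit 1) (nat_lit 2) = true := by decide +kernel
theorem cktl2_e_0 : allZ (dent cktl2 ckth_P (nat_lit 1728)) (nat_lit 0) (nat_lit 5) = true := by decide +kernel
theorem tl1_e_0 : allZ (dent tl1 (wdsP tP te) (nat_lit 1088)) (nat_lit 0) (nat_lit 15) = true := by decide +kernel
theorem cgtl3_e_0 : allZ (dent cgtl3 cgth_P (nat_lit 1728)) (nat_lit 0) (nat_lit 5) = true := by decide +kernel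
theorem cltl3_e_0 : allZ (dent cltl3 clth_P (nat_lit 1728)) (nat_lit 0) (nat_lit 5) = true := by decide +kernel
theorem cgc1_e_0 : allZ (dent cgc1 cge_P (nat_lit 1728)) (nat_lit 0) (nat_lit 5) = true := by decide +kernel
theorem cn_f2 : (Nat.ble cntl2.K 11 && Nat.blt (nat_lit 22) 1728 && fixLetters cnth_P cntl2.K (nat_lit 22) && Nat.beq (ltAll 4 [nat_lit 0]) 0 && Nat.beq (apW cnx_P [nat_lit 0] (nat_lit 22)) (cntl2.Pt 0)) = true := by decide +kernel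
theorem cftl2_e_0 : allZ (dent cftl2 cfth_P (nat_lit 1728)) (nat_lit 0) (nat_lit 5) = true := by decide +kernel
theorem cptl3_e_0 : allZ (dent cptl3 cpth_P (nat_lit 1728)) (nat_lit 0) (nat_lit 5) = true := by decide +kernel
theorem ckt_f3 : (Nat.ble cktl3.K 12 && Nat.ble (topK []) cktl3.K && fixLetters ckth_P (topK []) (cktl3.Pt 0)) = true := by decide +kernel
theorem ckt_f2 : (Nat.ble cktl2.K 12 && Nat.ble (topK [cktl3]) cktl2.K && fixLetters ckth_P (topK [cktl3]) (cktl2.Pt 0)) = true := by decide +kernel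
theorem ckt_f1 : (Nat.ble cktl1.K 12 && Nat.ble (topK [cktl2, cktl3]) cktl1.K && fixLetters ckth_P (topK [cktl2, cktl3]) (cktl1.Pt 0)) = true := by decide +kernel
theorem ckt_f0 : (Nat.ble cktl0.K 12 && Nat.ble (topK [cktl1, cktl2, cktl3]) cktl0.K && fixLetters ckth_P (topK [cktl1, cktl2, cktl3]) (cktl0.Pt 0)) = true := by decide +kernel
theorem cpt_f5 : (Nat.ble cptl5.K 12 && Nat.ble (topK []) cptl5.K && fixLetters cpth_P (topK []) (cptl5.Pt 0)) = true := by decide +kernel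
theorem cpt_f4 : (Nat.ble cptl4.K 12 && Nat.ble (topK [cptl5]) cptl4.K && fixLetters cpth_P (topK [cptl5]) (cptl4.Pt 0)) = true := by decide +kernel
theorem cpt_f3 : (Nat.ble cptl3.K 12 && Nat.ble (topK [cptl4, cptl5]) cptl3.K && fixLetters cpth_P (topK [cptl4, cptl5]) (cptl3.Pt 0)) = true := by decide +kernel
theorem cpt_f2 : (Nat.ble cptl2.K 12 && Nat.ble (topK [cptl3, cptl4, cptl5]) cptl2.K && fixLetters cpth_P (topK [cptl3, cptl4, cptl5]) (cptl2.Pt 0)) = true := by decide +kernel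
theorem cpt_f1 : (Nat.ble cptl1.K 12 && Nat.ble (topK [cptl2, cptl3, cptl4, cptl5]) cptl1.K && fixLetters cpth_P (topK [cptl2, cptl3, cptl4, cptl5]) (cptl1.Pt 0)) = true := by decide +kernel
theorem cpt_f0 : (Nat.ble cptl0.K 12 && Nat.ble (topK [cptl1, cptl2, cptl3, cptl4, cptl5]) cptl0.K && fixLetters cpth_P (topK [cptl1, cptl2, cptl3, cptl4, cptl5]) (cptl0.Pt 0)) = true := by decide +kernel
theorem cvtl2_e_0 : allZ (dent cvtl2 cvth_P (nat_lit 1728)) (nat_lit 0) (nat_lit 5) = true := by decide +kernel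
theorem cnt_f3 : (Nat.ble cntl3.K 11 && Nat.ble (topK []) cntl3.K && fixLetters cnth_P (topK []) (cntl3.Pt 0)) = true := by decide +kernel
theorem cnt_f2 : (Nat.ble cntl2.K 11 && Nat.ble (topK [cntl3]) cntl2.K && fixLetters cnth_P (topK [cntl3]) (cntl2.Pt 0)) = true := by decide +kernel
theorem cnt_f1 : (Nat.ble cntl1.K 11 && Nat.ble (topK [cntl2, cntl3]) cntl1.K && fixLetters cnth_P (topK [cntl2, cntl3]) (cntl1.Pt 0)) = true := by decide +kernel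
theorem cnt_f0 : (Nat.ble cntl0.K 11 && Nat.ble (topK [cntl1, cntl2, cntl3]) cntl0.K && fixLetters cnth_P (topK [cntl1, cntl2, cntl3]) (cntl0.Pt 0)) = true := by decide +kernel
theorem cpc1_e_0 : allZ (dent cpc1 cpe_P (nat_lit 1728)) (nat_lit 0) (nat_lit 4) = true := by decide +kernel
theorem t_f1 : (Nat.ble tl1.K 23 && Nat.ble (topK []) tl1.K && fixLetters (wdsP tP te) (topK []) (tl1.Pt 0)) = true := by decide +kernel
theorem t_f0 : (Nat.ble tl0.K 23 && Nat.ble (topK [tl1]) tl0.K && fixLetters (wdsP tP te) (topK [tl1]) (tl0.Pt 0)) = true := by decide +kernel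
theorem cktl3_e_0 : allZ (dent cktl3 ckth_P (nat_lit 1728)) (nat_lit 0) (nat_lit 3) = true := by decide +kernel
theorem cvtl4_e_0 : allZ (dent cvtl4 cvth_P (nat_lit 1728)) (nat_lit 0) (nat_lit 3) = true := by decide +kernel
theorem cgtl4_e_0 : allZ (dent cgtl4 cgth_P (nat_lit 1728)) (nat_lit 0) (nat_lit 3) = true := by decide +kernel
theorem me5 : 1 < 39 ∧ ltAll 5 [nat_lit 0, nat_lit 4, nat_lit 0, nat_lit 2, nat_lit 3, nat_lit 2, nat_lit 3, nat_lit 0, nat_lit 4, nat_lit 0] = 0 ∧ sumL (fun β => Nat.xor ((wdsP Tm wW) 1 β) (apW Tm [nat_lit 0, nat_lit 4, nat_lit 0, nat_lit 2, nat_lit 3, nat_lit 2, nat_lit 3, nat_lit 0, nat_lit 4, nat_lit 0] β)) B1 = 0 := by decide +kernel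
theorem cgc2_e_0 : allZ (dent cgc2 cge_P (nat_lit 1728)) (nat_lit 0) (nat_lit 3) = true := by decide +kernel
theorem cqtl3_e_0 : allZ (dent cqtl3 cqth_P (nat_lit 1728)) (nat_lit 0) (nat_lit 3) = true := by decide +kernel
theorem n3tl3_e_0 : allZ (dent n3tl3 n3th_P (nat_lit 1728)) (nat_lit 0) (nat_lit 3) = true := by decide +kernel
theorem n3c0_e_0 : allZ (dent n3c0 n3e_P (nat_lit 1728)) (nat_lit 0) (nat_lit 3) = true := by decide +kernel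
theorem wb1c0_e_0 : allZ (dent wb1c0 wb1e_P (nat_lit 1728)) (nat_lit 0) (nat_lit 3) = true := by decide +kernel
theorem cnc0_e_0 : allZ (dent cnc0 cne_P (nat_lit 1728)) (nat_lit 0) (nat_lit 3) = true := by decide +kernel
theorem zlc0_e_0 : allZ (dent zlc0 zle_P (nat_lit 1728)) (nat_lit 0) (nat_lit 3) = true := by decide +kernel
theorem cvtl3_e_0 : allZ (dent cvtl3 cvth_P (nat_lit 1728)) (nat_lit 0) (nat_lit 3) = true := by decide +kernel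
theorem bzpc0_e_0 : allZ (dent bzpc0 bzpe_P (nat_lit 1728)) (nat_lit 0) (nat_lit 3) = true := by decide +kernel
theorem cpc0_e_0 : allZ (dent cpc0 cpe_P (nat_lit 1728)) (nat_lit 0) (nat_lit 3) = true := by decide +kernel
theorem cltn2_1_0 : allZ (cltn2.ent Tm clth_P clx_P cltn1y990_P cltr2k_P (nat_lit 6) (nat_lit 1) B1 cltl5 [] (fun _ => nat_lit 1)) (nat_lit 0) (nat_lit 2) = true := by decide +kernel
theorem cgtn2_1_0 : allZ (cgtn2.ent Tm cgth_P cgx_P cgtn1y1146_P cgtr2k_P (nat_lit 7) (nat_lit 1) B1 cgtl5 [] (fun _ => nat_lit 1)) (nat_lit 0) (nat_lit 2) = true := by decide +kernel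
theorem wzpc0_e_0 : allZ (dent wzpc0 wzpe_P (nat_lit 1728)) (nat_lit 0) (nat_lit 3) = true := by decide +kernel
theorem bzptl3_e_0 : allZ (dent bzptl3 bzpth_P (nat_lit 1728)) (nat_lit 0) (nat_lit 2) = true := by decide +kernel
theorem n3tl4_e_0 : allZ (dent n3tl4 n3th_P (nat_lit 1728)) (nat_lit 0) (nat_lit 2) = true := by decide +kernel
theorem cntl3_e_0 : allZ (dent cntl3 cnth_P (nat_lit 1728)) (nat_lit 0) (nat_lit 2) = true := by decide +kernel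
theorem zltl4_e_0 : allZ (dent zltl4 zlth_P (nat_lit 1728)) (nat_lit 0) (nat_lit 2) = true := by decide +kernel
theorem cqtl4_e_0 : allZ (dent cqtl4 cqth_P (nat_lit 1728)) (nat_lit 0) (nat_lit 2) = true := by decide +kernel
theorem cftn2_1_0 : allZ (cftn2.ent Tm cfth_P cfx_P cftn1y1706_P cftr2k_P (nat_lit 7) (nat_lit 1) B1 cftl4 [] (fun _ => nat_lit 1)) (nat_lit 0) (nat_lit 2) = true := by decide +kernel
theorem wb1tl3_e_0 : allZ (dent wb1tl3 wb1th_P (nat_lit 1728)) (nat_lit 0) (nat_lit 2) = true := by decide +kernel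
theorem cgc4_e_0 : allZ (dent cgc4 cge_P (nat_lit 1728)) (nat_lit 0) (nat_lit 1) = true := by decide +kernel
theorem cltl4_e_0 : allZ (dent cltl4 clth_P (nat_lit 1728)) (nat_lit 0) (nat_lit 1) = true := by decide +kernel
theorem cptl4_e_0 : allZ (dent cptl4 cpth_P (nat_lit 1728)) (nat_lit 0) (nat_lit 1) = true := by decide +kernel
theorem cftl3_e_0 : allZ (dent cftl3 cfth_P (nat_lit 1728)) (nat_lit 0) (nat_lit 1) = true := by decide +kernel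
theorem cftl4_e_0 : allZ (dent cftl4 cfth_P (nat_lit 1728)) (nat_lit 0) (nat_lit 1) = true := by decide +kernel
theorem cfc4_e_0 : allZ (dent cfc4 cfe_P (nat_lit 1728)) (nat_lit 0) (nat_lit 1) = true := by decide +kernel
theorem cgtl5_e_0 : allZ (dent cgtl5 cgth_P (nat_lit 1728)) (nat_lit 0) (nat_lit 1) = true := by decide +kernel
theorem cgc5_e_0 : allZ (dent cgc5 cge_P (nat_lit 1728)) (nat_lit 0) (nat_lit 1) = true := by decide +kernel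
theorem ctc0_e_0 : allZ (dent ctc0 cte_P (nat_lit 1728)) (nat_lit 0) (nat_lit 1) = true := by decide +kernel
theorem ckc0_e_0 : allZ (dent ckc0 cke_P (nat_lit 1728)) (nat_lit 0) (nat_lit 1) = true := by decide +kernel
theorem cltl5_e_0 : allZ (dent cltl5 clth_P (nat_lit 1728)) (nat_lit 0) (nat_lit 1) = true := by decide +kernel
theorem clc5_e_0 : allZ (dent clc5 cle_P (nat_lit 1728)) (nat_lit 0) (nat_lit 1) = true := by decide +kernel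
theorem cqc0_e_0 : allZ (dent cqc0 cqe_P (nat_lit 1728)) (nat_lit 0) (nat_lit 1) = true := by decide +kernel
theorem cftn0_1_0 : allZ (cftn0.ent Tm cfth_P cfx_P cfx_P cfe_P (nat_lit 7) (nat_lit 1) B1 cftl4 [] (memO cfc4)) (nat_lit 0) (nat_lit 2) = true := by decide +kernel
theorem cgtn0_1_0 : allZ (cgtn0.ent Tm cgth_P cgx_P cgx_P cge_P (nat_lit 7) (nat_lit 1) B1 cgtl5 [] (memO cgc5)) (nat_lit 0) (nat_lit 2) = true := by decide +kernel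
theorem cltn0_1_0 : allZ (cltn0.ent Tm clth_P clx_P clx_P cle_P (nat_lit 6) (nat_lit 1) B1 cltl5 [] (memO clc5)) (nat_lit 0) (nat_lit 2) = true := by decide +kernel
theorem cptn0_1_0 : allZ (cptn0.ent Tm cpth_P cpx_P cpx_P cpe_P (nat_lit 6) (nat_lit 1) B1 cptl5 [] (memO cpc5)) (nat_lit 0) (nat_lit 2) = true := by decide +kernel
theorem cvtn0_1_0 : allZ (cvtn0.ent Tm cvth_P cvx_P cvx_P cve_P (nat_lit 7) (nat_lit 2) B1 cvtl5 [] (memO cvc5)) (nat_lit 0) (nat_lit 2) = true := by decide +kernel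
theorem cptl5_e_0 : allZ (dent cptl5 cpth_P (nat_lit 1728)) (nat_lit 0) (nat_lit 1) = true := by decide +kernel
theorem cpc5_e_0 : allZ (dent cpc5 cpe_P (nat_lit 1728)) (nat_lit 0) (nat_lit 1) = true := by decide +kernel
theorem pfl0_e_0 : allZ (dent pfl0 (wdsP pfP pfe) (nat_lit 20)) (nat_lit 0) (nat_lit 4) = true := by decide +kernel
theorem cvtl5_e_0 : allZ (dent cvtl5 cvth_P (nat_lit 1728)) (nat_lit 0) (nat_lit 1) = true := by decide +kernel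
theorem cvc5_e_0 : allZ (dent cvc5 cve_P (nat_lit 1728)) (nat_lit 0) (nat_lit 1) = true := by decide +kernel
theorem pf_f0 : (Nat.ble pfl0.K 6 && Nat.ble (topK []) pfl0.K && fixLetters (wdsP pfP pfe) (topK []) (pfl0.Pt 0)) = true := by decide +kernel
theorem pf_p : allZ2 (pcEnt pfP (nat_lit 5) pfB pfC) 1 1 = true := by decide +kernel

end H15.NS.Suz
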